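import Mathlib
import Cfsg.Agent.Lib.FirstPower.SmallReduction
import Cfsg.Agent.Lib.Blocks.Central

/-!
# Brauer characters of matrix representations over the residue field

`teich` lifts a residue to the root of unity of order prime to `p` above it; `bchar A` is the
Brauer character of a matrix representation over the residue field, extended by zero to the
singular elements.  `bchar_reduction`: the Brauer character of the reduction of a matrix
representation over the local ring is the regular part of its character.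
-/

set_option autoImplicit false

namespace Cfsg.Agent.Lib.BrauerChar

open Polynomial Cfsg.Agent.Lib.Blocks

universe u

attribute [local instance] Ideal.Quotient.field

variable (M : Ideal Cfsg.AlgInt) [M.IsMaximal] (p : ℕ)

/-- The residue field. -/
abbrev Rk : Type := Cfsg.AlgInt ⧸ M

open scoped Classical in
/-- The root of unity of order prime to `p` above a residue (zero above zero). -/
noncomputable def teichA (x : Rk M) : Cfsg.AlgInt :=
  if h : ∃ ε : Cfsg.AlgInt, (∃ m : ℕ, ¬ p ∣ m ∧ (ε : ℂ) ^ m = 1) ∧ Ideal.Quotient.mk M ε = x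
  then h.choose else 0

variable {M p}

theorem teichA_mk (hM : Cfsg.IsPModular p M) {ε : Cfsg.AlgInt} {m : ℕ} (hm : ¬ p ∣ m)
    (hε : (ε : ℂ) ^ m = 1) : teichA M p (Ideal.Quotient.mk M ε) = ε := by
  classical
  have h : ∃ ε' : Cfsg.AlgInt, (∃ m : ℕ, ¬ p ∣ m ∧ (ε' : ℂ) ^ m = 1) ∧
      Ideal.Quotient.mk M ε' = Ideal.Quotient.mk M ε := ⟨ε, ⟨m, hm, hε⟩, rfl⟩
  rw [teichA, dif_pos h]
  obtain ⟨⟨m', hm', hε'⟩, hmk⟩ := h.choose_spec
  refine rootOfUnity_eq_of_sub_mem hM (m := m * m') (fun hd => ?_) ?_ ?_ (Ideal.Quotient.eq.mp hmk)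
  · rcases hM.1.dvd_mul.mp hd with h' | h'
    · exact hm h'
    · exact hm' h'
  · rw [mul_comm, pow_mul, hε', one_pow]
  · rw [pow_mul, hε, one_pow]

theorem mk_teichA (hM : Cfsg.IsPModular p M) (x : Rk M) :
    Ideal.Quotient.mk M (teichA M p x) = x := by
  classical
  obtain ⟨a, rfl⟩ := Ideal.Quotient.mk_surjective x
  by_cases ha : a ∈ M
  · rw [Ideal.Quotient.eq_zero_iff_mem.mpr ha, teichA, dif_neg, map_zero]
    rintro ⟨ε, ⟨m, hm, hε⟩, h0⟩
    have hm0 : m ≠ 0 := fun h => hm (h ▸ dvd_zero p)
    have h1 : Ideal.Quotient.mk M (ε ^ m) = 1 := by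
      rw [show ε ^ m = 1 from Subtype.ext (by push_cast; exact hε), map_one]
    rw [map_pow, h0, zero_pow hm0] at h1
    exact zero_ne_one h1
  · obtain ⟨ε, ⟨m, hm, hε⟩, hsub⟩ := exists_rootOfUnity_lift hM ha
    rw [Ideal.Quotient.eq.mpr hsub, teichA_mk hM hm hε]

variable {G : Type u} [Group G] {ι κ : Type*} [Fintype ι] [DecidableEq ι] [Fintype κ]
  [DecidableEq κ]

variable (p) in
open scoped Classical in
/-- The Brauer character of a matrix representation, with values in the algebraic integers. -/
noncomputable def bcharA (A : G →* Matrix ι ι (Rk M)) (g : G) : Cfsg.AlgInt :=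
  if p ∣ orderOf g then 0 else ((A g).charpoly.roots.map (teichA M p)).sum

variable (p) in
/-- The Brauer character of a matrix representation, zero on the singular elements. -/
noncomputable def bchar (A : G →* Matrix ι ι (Rk M)) : G → ℂ := fun g => (bcharA p A g : ℂ)

theorem bchar_singular (A : G →* Matrix ι ι (Rk M)) {g : G} (hg : p ∣ orderOf g) :
    bchar p A g = 0 := by
  simp [bchar, bcharA, hg]

theorem bchar_regular (A : G →* Matrix ι ι (Rk M)) {g : G} (hg : ¬ p ∣ orderOf g) :
    bchar p A g = (((A g).charpoly.roots.map (teichA M p)).sum : Cfsg.AlgInt) := by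
  simp [bchar, bcharA, hg]

/-- Brauer characters depend only on the characteristic polynomials. -/
theorem bchar_eq_of_charpoly (A : G →* Matrix ι ι (Rk M)) (B : G →* Matrix κ κ (Rk M))
    (h : ∀ g, (A g).charpoly = (B g).charpoly) : bchar p A = bchar p B := by
  funext g
  by_cases hg : p ∣ orderOf g
  · rw [bchar_singular A hg, bchar_singular B hg]
  · rw [bchar_regular A hg, bchar_regular B hg, h]

theorem bchar_isClassFunction (A : G →* Matrix ι ι (Rk M)) :
    Cfsg.IsClassFunction G (bchar p A) := by
  intro g h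
  have ho : orderOf (h * g * h⁻¹) = orderOf g := (MulAut.conj h).orderOf_eq g
  by_cases hg : p ∣ orderOf g
  · rw [bchar_singular A hg, bchar_singular A (ho ▸ hg)]
  · rw [bchar_regular A hg, bchar_regular A (ho ▸ hg)]
    have hu : A (h * g * h⁻¹) = A h * A g * A h⁻¹ := by rw [map_mul, map_mul]
    rw [hu, Matrix.charpoly_mul_comm, ← mul_assoc, ← map_mul A h⁻¹ h, inv_mul_cancel, map_one, one_mul]

set_option linter.unusedSectionVars false

variable [Finite G]

/-- Modulo `M` the Brauer character is the trace. -/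
theorem mk_bcharA (hM : Cfsg.IsPModular p M) (A : G →* Matrix ι ι (Rk M)) {g : G}
    (hg : ¬ p ∣ orderOf g) : Ideal.Quotient.mk M (bcharA p A g) = (A g).trace := by
  haveI := isAlgClosed_residueField (M := M)
  rw [bcharA, if_neg hg, map_multiset_sum, Multiset.map_map, Matrix.trace_eq_sum_roots_charpoly]
  congr 1
  exact (Multiset.map_congr rfl fun x _ => mk_teichA hM x).trans (Multiset.map_id' _)

/-- The value at the identity is the degree. -/
theorem bchar_one (hM : Cfsg.IsPModular p M) (A : G →* Matrix ι ι (Rk M)) :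
    bchar p A 1 = (Fintype.card ι : ℂ) := by
  have h1 : ¬ p ∣ orderOf (1 : G) := by rw [orderOf_one]; exact hM.1.not_dvd_one
  have ht : teichA M p (1 : Rk M) = 1 := by
    rw [← map_one (Ideal.Quotient.mk M)]
    exact teichA_mk hM hM.1.not_dvd_one (by simp)
  rw [bchar_regular A h1, map_one]
  have hroots : (1 : Matrix ι ι (Rk M)).charpoly.roots =
      Multiset.replicate (Fintype.card ι) (1 : Rk M) := by
    rw [Matrix.charpoly_one, Polynomial.roots_pow, ← map_one Polynomial.C, roots_X_sub_C,
      Multiset.nsmul_singleton]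
  rw [hroots, Multiset.map_replicate, ht, Multiset.sum_replicate]
  simp

/-- The Brauer character of a reduction is the regular part of the character. -/
theorem bchar_reduction (hM : Cfsg.IsPModular p M) (T : G →* Matrix ι ι (localRing M)) {g : G}
    (hg : ¬ p ∣ orderOf g) :
    bchar p (((residue M).mapMatrix.toMonoidHom).comp T) g = ((T g).trace : localRing M) := by
  classical
  set m := orderOf g with hm
  set U := T g with hU
  set Uc : Matrix ι ι ℂ := (localRing M).subtype.mapMatrix U with hUc
  have hUm : Uc ^ m = 1 := by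
    rw [hUc, ← map_pow, hU, ← map_pow, pow_orderOf_eq_one, map_one, map_one]
  set rts := Uc.charpoly.roots with hr
  have hroot : ∀ ε ∈ rts, ε ^ m = 1 := by
    intro ε hε
    have hε' : ε ∈ spectrum ℂ Uc := by
      rw [Matrix.mem_spectrum_iff_isRoot_charpoly]
      exact (Polynomial.mem_roots'.mp hε).2
    have h1 := spectrum.pow_mem_pow Uc m hε'
    rw [hUm] at h1
    rcases subsingleton_or_nontrivial (Matrix ι ι ℂ) with hs | hn
    · simp [spectrum.of_subsingleton] at h1
    · rwa [spectrum.one_eq, Set.mem_singleton_iff] at h1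
  have hm0 : 0 < m := orderOf_pos g
  have hint : ∀ ε ∈ rts, IsIntegral ℤ ε := fun ε hε =>
    IsIntegral.of_pow hm0 (by rw [hroot ε hε]; exact isIntegral_one)
  let rI : Multiset Cfsg.AlgInt := rts.pmap (fun ε h => (⟨ε, h⟩ : Cfsg.AlgInt)) hint
  have hrI : rI.map (fun a : Cfsg.AlgInt => (a : ℂ)) = rts := by
    refine (Multiset.map_pmap (f := fun ε h => (⟨ε, h⟩ : Cfsg.AlgInt))
      (g := fun a : Cfsg.AlgInt => (a : ℂ)) rts hint).trans ?_
    exact (Multiset.pmap_eq_map _ (fun ε => ε) rts hint).trans (Multiset.map_id' rts)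
  have hmemI : ∀ a ∈ rI, (a : ℂ) ^ m = 1 := fun a ha =>
    hroot _ (by rw [← hrI]; exact Multiset.mem_map_of_mem _ ha)
  have hpoly : U.charpoly = ((rI.map (ofAlgInt (M := M))).map fun z => X - C z).prod := by
    apply Polynomial.map_injective (localRing M).subtype Subtype.val_injective
    rw [← Matrix.charpoly_map, Polynomial.map_multiset_prod, Multiset.map_map, Multiset.map_map]
    have hsp : Uc.charpoly.Splits := IsAlgClosed.splits _
    change Uc.charpoly = _
    rw [hsp.eq_prod_roots_of_monic (Matrix.charpoly_monic Uc), ← hr, ← hrI, Multiset.map_map]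
    congr 1
    refine Multiset.map_congr rfl fun a _ => ?_
    simp only [Function.comp_apply, Polynomial.map_sub, Polynomial.map_X, Polynomial.map_C]
    rfl
  have hred : (((residue M).mapMatrix.toMonoidHom).comp T) g = (residue M).mapMatrix U := rfl
  rw [bchar_regular _ hg, hred, RingHom.mapMatrix_apply, Matrix.charpoly_map, hpoly,
    Polynomial.map_multiset_prod, Multiset.map_map, Multiset.map_map]
  have hmap : ((rI.map ((Polynomial.map (residue M) ∘ fun z => X - C z) ∘ ofAlgInt (M := M)))) =
      (rI.map fun a => Ideal.Quotient.mk M a).map fun z => X - C z := by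
    rw [Multiset.map_map]
    refine Multiset.map_congr rfl fun a _ => ?_
    simp only [Function.comp_apply, Polynomial.map_sub, Polynomial.map_X, Polynomial.map_C,
      residue_ofAlgInt]
  rw [hmap, roots_multiset_prod_X_sub_C, Multiset.map_map]
  have hteich : rI.map (teichA M p ∘ fun a => Ideal.Quotient.mk M a) = rI := by
    conv_rhs => rw [← Multiset.map_id' rI]
    exact Multiset.map_congr rfl fun a ha => teichA_mk hM hg (hmemI a ha)
  rw [hteich]
  have htr : (((T g).trace : localRing M) : ℂ) = Uc.trace := by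
    simp [Uc, hU, Matrix.trace, RingHom.mapMatrix_apply]
  rw [htr, Matrix.trace_eq_sum_roots_charpoly, ← hr, ← hrI]
  exact map_multiset_sum (Cfsg.AlgInt.val) rI

/-- Every character is afforded by matrices over the local ring. -/
theorem exists_matrix_localRing (hM : Cfsg.IsPModular p M) {χ : G → ℂ}
    (hχ : Cfsg.IsCharacter G χ) :
    ∃ (n : ℕ) (T : G →* Matrix (Fin n) (Fin n) (localRing M)),
      ∀ g, ((T g).trace : ℂ) = χ g := by
  classical
  obtain ⟨n, ρ, rfl⟩ := hχ
  obtain ⟨σ, ⟨eq⟩, hσ⟩ := Induced.SplittingField.exists_rep_cycl n ρ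
  have halg : ∀ g i j, IsAlgebraic ℚ (LinearMap.toMatrix' (σ g) i j) := by
    intro g i j
    have hζ : IsIntegral ℚ (Complex.exp (2 * Real.pi * Complex.I / (Monoid.exponent G : ℂ))) :=
      IsIntegral.of_pow (Nat.pos_of_ne_zero Monoid.exponent_ne_zero_of_finite) (by
        rw [(Complex.isPrimitiveRoot_exp _ Monoid.exponent_ne_zero_of_finite).pow_eq_one]
        exact isIntegral_one)
    exact (IsIntegral.of_mem_of_fg _ hζ.fg_adjoin_singleton _ (hσ g i j)).isAlgebraic
  obtain ⟨b, hb⟩ := FirstPower.SmallReduction.exists_lattice_basis hM σ halg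
  let T : G →* Matrix (Fin n) (Fin n) (localRing M) :=
    { toFun := fun g => Matrix.of fun i j => ⟨LinearMap.toMatrix b b (σ g) i j, hb g i j⟩
      map_one' := by
        ext i j
        show LinearMap.toMatrix b b (σ 1) i j = _
        rw [map_one, LinearMap.toMatrix_one, Matrix.one_apply, Matrix.one_apply]
        split_ifs <;> rfl
      map_mul' := fun g h => by
        ext i j
        show LinearMap.toMatrix b b (σ (g * h)) i j = _
        rw [map_mul, LinearMap.toMatrix_mul, Matrix.mul_apply, Matrix.mul_apply]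
        simp [Matrix.of_apply] }
  refine ⟨n, T, fun g => ?_⟩
  rw [Induced.SplittingField.char_eq_of_equiv ρ σ eq.toLinearEquiv fun g v => by
    exact eq.toIntertwiningMap.isIntertwining _ _ g v]
  rw [Representation.character, LinearMap.trace_eq_matrix_trace ℂ b]
  simp [T, Matrix.trace]

end Cfsg.Agent.Lib.BrauerChar
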