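import Mathlib
import Cfsg.Agent.Lib.BrauerChar.Lifting
import Cfsg.Agent.Lib.Blocks.Orthogonality
import Cfsg.Agent.Lib.BrauerPairs.SimpleRep

/-!
# Irreducible Brauer characters

`IBr p M G`: Brauer characters of the matrix representations spanning the full matrix algebra.
They are linearly independent modulo `M`, hence over `ℂ`; the Brauer character of any
representation is a sum of them, with the central character preserved.
-/

set_option autoImplicit false
set_option linter.unusedSectionVars false
set_option linter.style.haveILetI false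
set_option synthInstance.maxHeartbeats 100000

namespace Cfsg.Agent.Lib.BrauerChar

open Polynomial MonoidAlgebra Cfsg.Agent.Lib.Blocks

universe u

attribute [local instance] Ideal.Quotient.field

variable {M : Ideal Cfsg.AlgInt} [M.IsMaximal] {p : ℕ} {G : Type u} [Group G]
  {ι κ : Type*} [Fintype ι] [DecidableEq ι] [Fintype κ] [DecidableEq κ]

/-- The extension of a matrix representation to the group algebra. -/
noncomputable def alg (A : G →* Matrix ι ι (Rk M)) :
    MonoidAlgebra (Rk M) G →ₐ[Rk M] Matrix ι ι (Rk M) :=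
  MonoidAlgebra.lift (Rk M) (Matrix ι ι (Rk M)) G A

theorem alg_single (A : G →* Matrix ι ι (Rk M)) (g : G) (c : Rk M) :
    alg A (single g c) = c • A g := MonoidAlgebra.lift_single A g c

/-- The matrices of the representation span the full matrix algebra. -/
def FullSpan (A : G →* Matrix ι ι (Rk M)) : Prop := Function.Surjective (alg A)

/-- The centre acts by the scalars `ω`. -/
def CentralBy (A : G →* Matrix ι ι (Rk M))
    (ω : Subalgebra.center (Rk M) (MonoidAlgebra (Rk M) G) → Rk M) : Prop :=
  ∀ z : Subalgebra.center (Rk M) (MonoidAlgebra (Rk M) G), alg A z.1 = algebraMap _ _ (ω z)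

/-- Full representations with a kernel inclusion have the same size and are conjugate. -/
theorem charpoly_eq_of_ker {n m : ℕ} (hn : 0 < n) (A : G →* Matrix (Fin n) (Fin n) (Rk M))
    (B : G →* Matrix (Fin m) (Fin m) (Rk M)) (hA : FullSpan A) (hB : FullSpan B)
    (h : ∀ z, alg B z = 0 → alg A z = 0) : ∀ g, (A g).charpoly = (B g).charpoly := by
  classical
  haveI : Nonempty (Fin n) := ⟨⟨0, hn⟩⟩
  have hwd : ∀ z w, alg B z = alg B w → alg A z = alg A w := fun z w e =>
    sub_eq_zero.mp (by rw [← map_sub]; exact h _ (by rw [map_sub, e, sub_self]))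
  let θ : Matrix (Fin m) (Fin m) (Rk M) →ₐ[Rk M] Matrix (Fin n) (Fin n) (Rk M) :=
    { toFun := fun X => alg A (hB X).choose
      map_one' := by
        rw [← map_one (alg A)]
        exact hwd _ _ ((hB 1).choose_spec.trans (map_one (alg B)).symm)
      map_mul' := fun X Y => by
        rw [← map_mul]
        refine hwd _ _ ?_
        rw [map_mul, (hB _).choose_spec, (hB X).choose_spec, (hB Y).choose_spec]
      map_zero' := by
        rw [← map_zero (alg A)]
        exact hwd _ _ ((hB 0).choose_spec.trans (map_zero (alg B)).symm)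
      map_add' := fun X Y => by
        rw [← map_add]
        refine hwd _ _ ?_
        rw [map_add, (hB _).choose_spec, (hB X).choose_spec, (hB Y).choose_spec]
      commutes' := fun r => by
        rw [← AlgHom.commutes (alg A) r]
        exact hwd _ _ ((hB _).choose_spec.trans (AlgHom.commutes (alg B) r).symm) }
  have hθ : ∀ z, θ (alg B z) = alg A z := fun z => hwd _ _ (hB (alg B z)).choose_spec
  have hsurj : Function.Surjective θ := fun Y => by
    obtain ⟨z, rfl⟩ := hA Y
    exact ⟨alg B z, hθ z⟩
  haveI : Nontrivial (Matrix (Fin m) (Fin m) (Rk M)) := θ.toRingHom.domain_nontrivial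
  haveI : Nonempty (Fin m) := by
    by_contra hne
    rw [not_nonempty_iff] at hne
    exact not_subsingleton (Matrix (Fin m) (Fin m) (Rk M)) ⟨fun a b => Matrix.ext fun i => isEmptyElim i⟩
  have hinj : Function.Injective θ := θ.toRingHom.injective
  let f : Module.End (Rk M) (Fin m → Rk M) ≃ₐ[Rk M] Module.End (Rk M) (Fin n → Rk M) :=
    Matrix.toLinAlgEquiv'.symm.trans ((AlgEquiv.ofBijective θ ⟨hinj, hsurj⟩).trans Matrix.toLinAlgEquiv')
  obtain ⟨T, hT⟩ := f.eq_linearEquivConjAlgEquiv
  intro g
  have hg : θ (B g) = A g := by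
    have := hθ (single g 1)
    rwa [alg_single, alg_single, one_smul, one_smul] at this
  have h1 : f (Matrix.toLin' (B g)) = Matrix.toLin' (A g) := by
    show Matrix.toLinAlgEquiv' (θ (Matrix.toLinAlgEquiv'.symm (Matrix.toLinAlgEquiv' (B g)))) =
      Matrix.toLinAlgEquiv' (A g)
    rw [AlgEquiv.symm_apply_apply, hg]
  rw [hT] at h1
  rw [← Matrix.charpoly_toLin', ← h1, ← Matrix.charpoly_toLin' (B g)]
  exact T.charpoly_conj _

variable [Finite G] [Fact p.Prime]

/-- A commuting `p`-element does not change the trace. -/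
theorem trace_mul_pElt (hM : Cfsg.IsPModular p M) (A : G →* Matrix ι ι (Rk M)) {x y : G}
    (hc : Commute x y) (hx : ∃ k : ℕ, orderOf x = p ^ k) : (A (x * y)).trace = (A y).trace := by
  rcases isEmpty_or_nonempty ι with he | hne
  · simp [Matrix.trace]
  obtain ⟨k, hk⟩ := hx
  haveI := charP_residue hM
  have hcA : Commute (A x) (A y) := hc.map A
  have hnil : IsNilpotent (A (x * y) - A y) := by
    rw [map_mul, show A x * A y - A y = (A x - 1) * A y by rw [sub_mul, one_mul]]
    refine Commute.isNilpotent_mul_right (hcA.sub_left (Commute.one_left _)) ⟨p ^ k, ?_⟩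
    rw [sub_pow_char_pow_of_commute _ _ (Commute.one_right (A x)), one_pow, ← map_pow, ← hk,
      pow_orderOf_eq_one, map_one, sub_self]
  have h0 := (Matrix.isNilpotent_trace_of_isNilpotent hnil).eq_zero
  rwa [Matrix.trace_sub, sub_eq_zero] at h0

/-- Representations with the same Brauer character have equal traces on the group algebra. -/
theorem trace_alg_eq (hM : Cfsg.IsPModular p M) (A : G →* Matrix ι ι (Rk M))
    (B : G →* Matrix κ κ (Rk M)) (h : bchar p A = bchar p B) (z : MonoidAlgebra (Rk M) G) :
    (alg A z).trace = (alg B z).trace := by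
  induction z using MonoidAlgebra.induction_on with
  | of g =>
    rw [of_apply, alg_single, alg_single, one_smul, one_smul]
    obtain ⟨x, y, hxy, hc, hk, hy⟩ := exists_isPPart hM.1 g
    have e : ∀ y, ¬ p ∣ orderOf y → (A y).trace = (B y).trace := fun y hy => by
      rw [← mk_bcharA hM A hy, ← mk_bcharA hM B hy]
      exact congrArg _ (Subtype.ext (congrFun h y))
    rw [← hxy, trace_mul_pElt hM A hc hk, trace_mul_pElt hM B hc hk, e y hy]
  | add a b ha hb => rw [map_add, map_add, Matrix.trace_add, Matrix.trace_add, ha, hb]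
  | smul r a ha => rw [map_smul, map_smul, Matrix.trace_smul, Matrix.trace_smul, ha]

/-- A full representation separates itself from one with another Brauer character. -/
theorem exists_sep (hM : Cfsg.IsPModular p M) {n m : ℕ} (hn : 0 < n)
    (A : G →* Matrix (Fin n) (Fin n) (Rk M)) (B : G →* Matrix (Fin m) (Fin m) (Rk M))
    (hA : FullSpan A) (hB : FullSpan B) (h : bchar p A ≠ bchar p B) :
    ∃ z, alg A z = 1 ∧ alg B z = 0 := by
  classical
  obtain ⟨z₀, hz₀, hz₀'⟩ : ∃ z, alg B z = 0 ∧ alg A z ≠ 0 := by
    by_contra hno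
    push Not at hno
    exact h (bchar_eq_of_charpoly A B (charpoly_eq_of_ker hn A B hA hB hno))
  obtain ⟨a, b, hab⟩ : ∃ a b, alg A z₀ a b ≠ 0 := by
    by_contra hz; push Not at hz; exact hz₀' (Matrix.ext hz)
  have hs : ∀ i, ∃ w, alg B w = 0 ∧ alg A w = Matrix.single i i 1 := by
    intro i
    obtain ⟨l, hl⟩ := hA (Matrix.single i a ((alg A z₀ a b)⁻¹))
    obtain ⟨r, hr⟩ := hA (Matrix.single b i 1)
    refine ⟨l * z₀ * r, by rw [map_mul, map_mul, hz₀, mul_zero, zero_mul], ?_⟩
    rw [map_mul, map_mul, hl, hr, Matrix.single_mul_mul_single, inv_mul_cancel₀ hab, mul_one]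
  choose w hwB hwA using hs
  refine ⟨∑ i, w i, ?_, ?_⟩
  · rw [map_sum, Finset.sum_congr rfl fun i _ => hwA i]
    ext i j
    simp [Matrix.sum_apply, Matrix.single_apply, Matrix.one_apply, ite_and]
  · rw [map_sum, Finset.sum_eq_zero fun i _ => hwB i]

variable (p M G) in
/-- The irreducible Brauer characters. -/
def IBr : Type u :=
  {f : G → ℂ // ∃ n : ℕ, 0 < n ∧ ∃ A : G →* Matrix (Fin n) (Fin n) (Rk M),
    FullSpan A ∧ bchar p A = f}

/-- The degree of the chosen representation. -/
noncomputable def IBr.deg (f : IBr M p G) : ℕ := f.2.choose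

theorem IBr.deg_pos (f : IBr M p G) : 0 < f.deg := f.2.choose_spec.1

/-- The chosen representation. -/
noncomputable def IBr.rep (f : IBr M p G) : G →* Matrix (Fin f.deg) (Fin f.deg) (Rk M) :=
  f.2.choose_spec.2.choose

theorem IBr.full (f : IBr M p G) : FullSpan f.rep := f.2.choose_spec.2.choose_spec.1

theorem IBr.bchar_rep (f : IBr M p G) : bchar p f.rep = f.1 := f.2.choose_spec.2.choose_spec.2

/-- An element that is the identity in one and zero in finitely many other representations. -/
theorem exists_sep_finset (hM : Cfsg.IsPModular p M) (f : IBr M p G) (s : Finset (IBr M p G))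
    (hf : f ∉ s) : ∃ z, alg f.rep z = 1 ∧ ∀ e ∈ s, alg e.rep z = 0 := by
  classical
  induction s using Finset.induction with
  | empty => exact ⟨1, map_one _, by simp⟩
  | insert a t ha ih =>
    obtain ⟨z, hz1, hz0⟩ := ih fun h => hf (Finset.mem_insert_of_mem h)
    obtain ⟨w, hw1, hw0⟩ := exists_sep hM f.deg_pos f.rep a.rep f.full a.full (by
      rw [f.bchar_rep, a.bchar_rep]
      exact fun e => hf (Subtype.ext e ▸ Finset.mem_insert_self a t))
    refine ⟨z * w, by rw [map_mul, hz1, hw1, one_mul], fun e he => ?_⟩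
    rw [map_mul]
    rcases Finset.mem_insert.mp he with rfl | he
    · rw [hw0, mul_zero]
    · rw [hz0 e he, zero_mul]

/-- The residues of the irreducible Brauer characters are linearly independent. -/
theorem linearIndependent_mk (hM : Cfsg.IsPModular p M) :
    LinearIndependent (Rk M) fun (f : IBr M p G) (g : G) =>
      Ideal.Quotient.mk M (bcharA p f.rep g) := by
  classical
  rw [linearIndependent_iff']
  intro s c hc f hf
  have hval : ∀ (e : IBr M p G) (y : G), ¬ p ∣ orderOf y →
      Ideal.Quotient.mk M (bcharA p e.rep y) = (e.rep y).trace := fun e y hy => mk_bcharA hM _ hy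
  have hreg : ∀ y, ¬ p ∣ orderOf y → ∑ e ∈ s, c e * (e.rep y).trace = 0 := fun y hy => by
    have h1 := congrFun hc y
    simp only [Finset.sum_apply, Pi.smul_apply, smul_eq_mul, Pi.zero_apply] at h1
    rwa [Finset.sum_congr rfl fun e _ => by rw [← hval e y hy]]
  have hall : ∀ z, ∑ e ∈ s, c e * (alg e.rep z).trace = 0 := by
    intro z
    induction z using MonoidAlgebra.induction_on with
    | of g =>
      simp only [of_apply, alg_single, one_smul]
      obtain ⟨x, y, hxy, hcm, hk, hy⟩ := exists_isPPart hM.1 g
      rw [← hreg y hy]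
      exact Finset.sum_congr rfl fun e _ => by rw [← hxy, trace_mul_pElt hM e.rep hcm hk]
    | add a b ha hb =>
      simp only [map_add, Matrix.trace_add, mul_add, Finset.sum_add_distrib, ha, hb, add_zero]
    | smul r a ha =>
      simp only [map_smul, Matrix.trace_smul, smul_eq_mul, mul_left_comm _ r, ← Finset.mul_sum, ha,
        mul_zero]
  obtain ⟨z, hz1, hz0⟩ := exists_sep_finset hM f (s.erase f) (Finset.notMem_erase f s)
  let i : Fin f.deg := ⟨0, f.deg_pos⟩
  obtain ⟨w, hw⟩ := f.full (Matrix.single i i 1)
  have h2 := hall (z * w)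
  rw [← Finset.add_sum_erase _ _ hf, map_mul, hz1, hw, one_mul, Matrix.trace_single_eq_same,
    mul_one, Finset.sum_eq_zero fun e he => by rw [map_mul, hz0 e he, zero_mul, Matrix.trace_zero,
      mul_zero], add_zero] at h2
  exact h2

theorem finite_ibr (hM : Cfsg.IsPModular p M) : Finite (IBr M p G) :=
  haveI := Fintype.ofFinite G
  (linearIndependent_mk hM).finite

set_option maxHeartbeats 800000 in
/-- The irreducible Brauer characters are linearly independent over `ℂ`. -/
theorem linearIndependent_val (hM : Cfsg.IsPModular p M) :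
    LinearIndependent ℂ fun f : IBr M p G => f.1 := by
  classical
  haveI := finite_ibr (G := G) hM
  haveI := Fintype.ofFinite (IBr M p G)
  haveI := Fintype.ofFinite G
  let v : IBr M p G → G → Rk M := fun f g => Ideal.Quotient.mk M (bcharA p f.rep g)
  let Φ : (IBr M p G → Rk M) →ₗ[Rk M] (G → Rk M) := Fintype.linearCombination (Rk M) v
  have hinj : LinearMap.ker Φ = ⊥ := by
    rw [LinearMap.ker_eq_bot']
    intro c hc
    exact funext (Fintype.linearIndependent_iff.mp (linearIndependent_mk hM) c
      (by simpa [Φ, v, Fintype.linearCombination_apply] using hc))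
  obtain ⟨L, hL⟩ := Φ.exists_leftInverse_of_injective hinj
  choose R hR using fun (g : G) (i : IBr M p G) =>
    Ideal.Quotient.mk_surjective (L (Pi.single g 1) i)
  let D : Matrix (IBr M p G) (IBr M p G) Cfsg.AlgInt := Matrix.of fun j i =>
    ∑ g, bcharA p j.rep g * R g i
  have hD : (Ideal.Quotient.mk M).mapMatrix D = 1 := by
    ext j i
    have h1 : L (v j) = Pi.single j 1 := by
      have := congrArg (fun T : (IBr M p G → Rk M) →ₗ[Rk M] (IBr M p G → Rk M) => T (Pi.single j 1)) hL
      simpa [Φ, Fintype.linearCombination_apply_single] using this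
    have h2 := congrFun h1 i
    rw [← Finset.univ_sum_single (v j), map_sum, Finset.sum_apply] at h2
    have h3 : ∀ g, L (Pi.single g (v j g)) i = v j g * L (Pi.single g 1) i := fun g => by
      have e1 : (Pi.single g (v j g) : G → Rk M) = v j g • (Pi.single g 1 : G → Rk M) :=
        funext fun x => by rcases eq_or_ne x g with rfl | hx <;> simp [*]
      rw [e1, map_smul]
      rfl
    simp only [h3] at h2
    simp only [RingHom.mapMatrix_apply, Matrix.map_apply, D, Matrix.of_apply, map_sum, map_mul, hR]
    rw [Matrix.one_apply]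
    refine h2.trans ?_
    rw [Pi.single_apply]
    simp only [eq_comm]
  have hdet : (D.map fun a : Cfsg.AlgInt => (a : ℂ)).det ≠ 0 := by
    have h0 : D.det ≠ 0 := fun h => by
      have := RingHom.map_det (Ideal.Quotient.mk M) D
      rw [h, map_zero, hD, Matrix.det_one] at this
      exact zero_ne_one this
    have e : ((D.det : Cfsg.AlgInt) : ℂ) = (D.map fun a : Cfsg.AlgInt => (a : ℂ)).det :=
      RingHom.map_det (Cfsg.AlgInt.val : Cfsg.AlgInt →+* ℂ) D
    rw [← e]
    exact fun h => h0 (Subtype.ext h)
  rw [Fintype.linearIndependent_iff]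
  intro c hc
  have hvec : Matrix.vecMul c (D.map fun a : Cfsg.AlgInt => (a : ℂ)) = 0 := by
    funext i
    simp only [Matrix.vecMul, dotProduct, Matrix.map_apply, D, Matrix.of_apply, Pi.zero_apply]
    push_cast
    simp only [Finset.mul_sum]
    rw [Finset.sum_comm]
    refine Finset.sum_eq_zero fun g _ => ?_
    have h1 := congrFun hc g
    simp only [Finset.sum_apply, Pi.smul_apply, smul_eq_mul, Pi.zero_apply] at h1
    rw [← Finset.sum_congr rfl fun j _ => mul_assoc (c j) (bcharA p j.rep g : ℂ) (R g i : ℂ),
      ← Finset.sum_mul]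
    rw [Finset.sum_congr rfl fun j _ => show c j * (bcharA p j.rep g : ℂ) = c j * j.1 g by
      rw [← j.bchar_rep]; rfl, h1, zero_mul]
  exact congrFun (Matrix.eq_zero_of_vecMul_eq_zero hdet hvec)

end Cfsg.Agent.Lib.BrauerChar
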