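import Mathlib
import Cfsg.Agent.Lib.BrauerChar.Simple
import Cfsg.Agent.Lib.Blocks.Basic

/-!
# Decomposition of a representation into irreducible Brauer characters

`decompose`: the Brauer character of a representation on which the centre acts by scalars is a
sum of irreducible Brauer characters with the same scalars.
-/

set_option autoImplicit false
set_option linter.unusedSectionVars false
set_option linter.style.haveILetI false
set_option synthInstance.maxHeartbeats 100000

namespace Cfsg.Agent.Lib.BrauerChar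

open Polynomial MonoidAlgebra Cfsg.Agent.Lib.Blocks

universe u v

attribute [local instance] Ideal.Quotient.field

/-- Burnside: a subalgebra acting simply is everything. -/
theorem eq_top_of_simple {k : Type u} [Field k] [IsAlgClosed k] {W : Type v} [AddCommGroup W]
    [Module k W] [FiniteDimensional k W] (S : Subalgebra k (Module.End k W))
    [IsSimpleModule S W] : S = ⊤ := by
  classical
  haveI : FiniteDimensional k S := FiniteDimensional.finiteDimensional_submodule S.toSubmodule
  refine eq_top_iff.mpr fun f _ => ?_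
  let F : Module.End (Module.End S W) W :=
    { toFun := f
      map_add' := map_add f
      map_smul' := fun φ w => by
        obtain ⟨c, rfl⟩ :=
          (IsSimpleModule.algebraMap_end_bijective_of_isAlgClosed (A := S) (V := W) k).2 φ
        simp [Module.algebraMap_end_apply] }
  let hb := Module.finBasis k W
  obtain ⟨r, hr⟩ := jacobson_density F (Finset.univ.image hb)
  have : (r : Module.End k W) = f := hb.ext fun i =>
    (hr (hb i) (Finset.mem_image_of_mem _ (Finset.mem_univ i))).symm
  exact this ▸ r.2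

variable {M : Ideal Cfsg.AlgInt} [M.IsMaximal] {p : ℕ} {G : Type u} [Group G]

set_option maxHeartbeats 1000000 in
/-- A representation that is not full has an invariant nonzero proper subspace. -/
theorem exists_invariant {n : ℕ} (hn : 0 < n) (A : G →* Matrix (Fin n) (Fin n) (Rk M))
    (hA : ¬ FullSpan A) : ∃ U : Submodule (Rk M) (Fin n → Rk M), U ≠ ⊥ ∧ U ≠ ⊤ ∧
      ∀ g, ∀ v ∈ U, Matrix.toLin' (A g) v ∈ U := by
  haveI := isAlgClosed_residueField (M := M)
  let φ : MonoidAlgebra (Rk M) G →ₐ[Rk M] Module.End (Rk M) (Fin n → Rk M) :=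
    (Matrix.toLinAlgEquiv' : Matrix (Fin n) (Fin n) (Rk M) ≃ₐ[Rk M] _).toAlgHom.comp (alg A)
  let S : Subalgebra (Rk M) (Module.End (Rk M) (Fin n → Rk M)) := φ.range
  have hns : ¬ IsSimpleModule S (Fin n → Rk M) := fun h => hA fun X => by
    have hX : Matrix.toLinAlgEquiv' X ∈ S := by rw [eq_top_of_simple S]; trivial
    obtain ⟨z, hz⟩ := (AlgHom.mem_range φ).mp hX
    exact ⟨z, Matrix.toLinAlgEquiv'.injective hz⟩
  haveI : Nonempty (Fin n) := ⟨⟨0, hn⟩⟩
  haveI : Nontrivial (Submodule S (Fin n → Rk M)) := (Submodule.nontrivial_iff S).mpr inferInstance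
  obtain ⟨U, hU0, hU1⟩ : ∃ U : Submodule S (Fin n → Rk M), U ≠ ⊥ ∧ U ≠ ⊤ := by
    by_contra hno
    push Not at hno
    refine hns ?_
    rw [isSimpleModule_iff]
    exact { eq_bot_or_eq_top := fun U => (em (U = ⊥)).imp id (hno U) }
  let U' : Submodule (Rk M) (Fin n → Rk M) :=
    { carrier := (U : Set (Fin n → Rk M))
      add_mem' := fun ha hb => U.add_mem ha hb
      zero_mem' := U.zero_mem
      smul_mem' := fun c v hv => by
        have h1 := U.smul_mem (algebraMap (Rk M) S c) hv
        have h2 : (algebraMap (Rk M) S c) • v = c • v := rfl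
        rwa [h2] at h1 }
  refine ⟨U', fun h => hU0 ?_, fun h => hU1 ?_, fun g v hv => ?_⟩
  · refine eq_bot_iff.mpr fun x hx => ?_
    have hx' : x ∈ U' := hx
    rw [h] at hx'
    exact hx'
  · refine eq_top_iff.mpr fun x _ => ?_
    exact (h ▸ Submodule.mem_top : x ∈ U')
  · have hm : φ (single g 1) ∈ S := ⟨_, rfl⟩
    have h1 : (⟨_, hm⟩ : S) • v ∈ U := U.smul_mem _ hv
    have h2 : Matrix.toLin' (A g) = φ (single g 1) := by
      simp only [φ, AlgHom.comp_apply, alg_single, one_smul]
      rfl
    rw [h2]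
    exact h1

/-- The centre acts by scalars in a full representation. -/
theorem exists_centralBy {n : ℕ} (hn : 0 < n) (A : G →* Matrix (Fin n) (Fin n) (Rk M))
    (hA : FullSpan A) : ∃ ω : Subalgebra.center (Rk M) (MonoidAlgebra (Rk M) G) →ₐ[Rk M] Rk M,
      CentralBy A ω := by
  classical
  haveI : Nonempty (Fin n) := ⟨⟨0, hn⟩⟩
  have hsc : ∀ z : Subalgebra.center (Rk M) (MonoidAlgebra (Rk M) G),
      ∃ c : Rk M, alg A z.1 = algebraMap _ _ c := by
    intro z
    obtain ⟨c, hc⟩ := Matrix.mem_range_scalar_of_commute_single (M := alg A z.1)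
      (fun i j _ => by
        obtain ⟨w, hw⟩ := hA (Matrix.single i j 1)
        show Matrix.single i j 1 * _ = _ * Matrix.single i j 1
        rw [← hw, ← map_mul, ← map_mul, Subalgebra.mem_center_iff.mp z.2 w])
    exact ⟨c, hc.symm⟩
  choose c hc using hsc
  have inj : Function.Injective (algebraMap (Rk M) (Matrix (Fin n) (Fin n) (Rk M))) :=
    RingHom.injective _
  refine ⟨{ toFun := c, map_one' := inj ?_, map_mul' := fun a b => inj ?_, map_zero' := inj ?_,
            map_add' := fun a b => inj ?_, commutes' := fun r => inj ?_ }, hc⟩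
  · rw [← hc, map_one, OneMemClass.coe_one, map_one]
  · rw [← hc, map_mul, MulMemClass.coe_mul, map_mul, hc, hc]
  · rw [← hc, map_zero, ZeroMemClass.coe_zero, map_zero]
  · rw [← hc, map_add, AddMemClass.coe_add, map_add, hc, hc]
  · rw [← hc]
    show alg A (algebraMap (Rk M) (MonoidAlgebra (Rk M) G) r) = _
    rw [AlgHom.commutes, Algebra.algebraMap_self, RingHom.id_apply]

variable [Finite G] [Fact p.Prime]

/-- Scalars of the centre pass between full representations with the same Brauer character. -/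
theorem centralBy_of_bchar_eq (hM : Cfsg.IsPModular p M) {n m : ℕ} (hn : 0 < n)
    (A : G →* Matrix (Fin n) (Fin n) (Rk M)) (B : G →* Matrix (Fin m) (Fin m) (Rk M))
    (hA : FullSpan A) (h : bchar p A = bchar p B)
    {ω : Subalgebra.center (Rk M) (MonoidAlgebra (Rk M) G) → Rk M} (hω : CentralBy B ω) :
    CentralBy A ω := by
  obtain ⟨ω', hω'⟩ := exists_centralBy hn A hA
  intro z
  let i : Fin n := ⟨0, hn⟩
  obtain ⟨w, hw⟩ := hA (Matrix.single i i 1)
  have h1 := trace_alg_eq hM A B h (z.1 * w)
  rw [map_mul, map_mul, hω', hω z, hw, ← Algebra.smul_def, ← Algebra.smul_def, Matrix.trace_smul,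
    Matrix.trace_smul, ← trace_alg_eq hM A B h w, hw, Matrix.trace_single_eq_same, smul_eq_mul,
    smul_eq_mul, mul_one, mul_one] at h1
  rw [hω', h1]

/-- Brauer characters add along a characteristic polynomial product. -/
theorem bchar_add {ι κ ν : Type*} [Fintype ι] [DecidableEq ι] [Fintype κ] [DecidableEq κ]
    [Fintype ν] [DecidableEq ν] (A : G →* Matrix ν ν (Rk M)) (P : G →* Matrix ι ι (Rk M))
    (R : G →* Matrix κ κ (Rk M)) (h : ∀ g, (A g).charpoly = (P g).charpoly * (R g).charpoly) :
    bchar p A = bchar p P + bchar p R := by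
  funext g
  rw [Pi.add_apply]
  by_cases hg : p ∣ orderOf g
  · simp [bchar_singular _ hg]
  · rw [bchar_regular A hg, bchar_regular P hg, bchar_regular R hg, h,
      Polynomial.roots_mul (mul_ne_zero (Matrix.charpoly_monic _).ne_zero
        (Matrix.charpoly_monic _).ne_zero), Multiset.map_add, Multiset.sum_add]
    push_cast
    rfl

set_option maxHeartbeats 1000000 in
/-- Decomposition with the central scalars preserved. -/
theorem decompose (hM : Cfsg.IsPModular p M) {n : ℕ} (A : G →* Matrix (Fin n) (Fin n) (Rk M)) :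
    ∃ s : Multiset (IBr M p G), bchar p A = (s.map fun f => f.1).sum ∧
      ∀ ω : Subalgebra.center (Rk M) (MonoidAlgebra (Rk M) G) → Rk M, CentralBy A ω →
        ∀ f ∈ s, CentralBy f.rep ω := by
  classical
  haveI := isAlgClosed_residueField (M := M)
  induction n using Nat.strong_induction_on with
  | _ n ih =>
  rcases Nat.eq_zero_or_pos n with rfl | hn
  · refine ⟨0, funext fun g => ?_, by simp⟩
    by_cases hg : p ∣ orderOf g
    · simp [bchar_singular A hg]
    · simp [bchar_regular A hg, Matrix.charpoly, Matrix.det_isEmpty]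
  by_cases hA : FullSpan A
  · let f : IBr M p G := ⟨bchar p A, n, hn, A, hA, rfl⟩
    refine ⟨{f}, ?_, fun ω hω e he => ?_⟩
    · rw [Multiset.map_singleton, Multiset.sum_singleton]
    · rw [Multiset.mem_singleton] at he
      subst he
      exact centralBy_of_bchar_eq hM f.deg_pos f.rep A f.full f.bchar_rep hω
  obtain ⟨U, hU0, hU1, hinv⟩ := exists_invariant hn A hA
  obtain ⟨V, hV⟩ := Submodule.exists_isCompl U
  set a := Module.finrank (Rk M) U with ha
  set c := Module.finrank (Rk M) V with hc
  have hac : a + c = n := by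
    rw [ha, hc, Submodule.finrank_add_eq_of_isCompl hV, Module.finrank_fin_fun]
  have ha0 : 0 < a := Nat.pos_of_ne_zero fun h => hU0 (Submodule.finrank_eq_zero.mp h)
  have hc0 : 0 < c := Nat.pos_of_ne_zero fun h => hU1 (by
    have := Submodule.finrank_eq_zero.mp h
    exact eq_top_of_isCompl_bot (this ▸ hV))
  let bU := Module.finBasis (Rk M) U
  let bV := Module.finBasis (Rk M) V
  let b := (bU.prod bV).map (Submodule.prodEquivOfIsCompl U V hV)
  let Φ : Matrix (Fin n) (Fin n) (Rk M) →ₐ[Rk M]
      Matrix (Fin a ⊕ Fin c) (Fin a ⊕ Fin c) (Rk M) :=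
    ((Matrix.toLinAlgEquiv' : Matrix (Fin n) (Fin n) (Rk M) ≃ₐ[Rk M] _).trans
      (LinearMap.toMatrixAlgEquiv b)).toAlgHom
  have hΦ : ∀ g, Φ (A g) = LinearMap.toMatrix b b (Matrix.toLin' (A g)) := fun g => rfl
  have hblock : ∀ g, (Φ (A g)).toBlocks₂₁ = 0 := fun g => by
    ext i j
    rw [hΦ, Matrix.toBlocks₂₁, Matrix.of_apply, LinearMap.toMatrix_apply, Matrix.zero_apply]
    have hb : b (Sum.inl j) = (bU j : Fin n → Rk M) := by
      simp [b]
    have hmem := hinv g _ (bU j).2
    rw [hb]
    have hs : (Submodule.prodEquivOfIsCompl U V hV).symm (Matrix.toLin' (A g) (bU j)) =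
        (⟨_, hmem⟩, 0) := by
      rw [LinearEquiv.symm_apply_eq]
      simp
    simp only [b, Module.Basis.map_repr, LinearEquiv.trans_apply, hs]
    simp
  have hfb : ∀ g, Φ (A g) = Matrix.fromBlocks (Φ (A g)).toBlocks₁₁ (Φ (A g)).toBlocks₁₂ 0
      (Φ (A g)).toBlocks₂₂ := fun g => by
    rw [← hblock g, Matrix.fromBlocks_toBlocks]
  have hmul : ∀ g h, Φ (A (g * h)) = Matrix.fromBlocks
      ((Φ (A g)).toBlocks₁₁ * (Φ (A h)).toBlocks₁₁)
      ((Φ (A g)).toBlocks₁₁ * (Φ (A h)).toBlocks₁₂ + (Φ (A g)).toBlocks₁₂ * (Φ (A h)).toBlocks₂₂) 0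
      ((Φ (A g)).toBlocks₂₂ * (Φ (A h)).toBlocks₂₂) := fun g h => by
    rw [map_mul, map_mul]
    conv_lhs => rw [hfb g, hfb h, Matrix.fromBlocks_multiply]
    simp
  let P : G →* Matrix (Fin a) (Fin a) (Rk M) :=
    { toFun := fun g => (Φ (A g)).toBlocks₁₁
      map_one' := by
        rw [map_one, map_one, ← Matrix.fromBlocks_one, Matrix.toBlocks_fromBlocks₁₁]
      map_mul' := fun g h => by rw [hmul, Matrix.toBlocks_fromBlocks₁₁] }
  let R : G →* Matrix (Fin c) (Fin c) (Rk M) :=
    { toFun := fun g => (Φ (A g)).toBlocks₂₂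
      map_one' := by
        rw [map_one, map_one, ← Matrix.fromBlocks_one, Matrix.toBlocks_fromBlocks₂₂]
      map_mul' := fun g h => by rw [hmul, Matrix.toBlocks_fromBlocks₂₂] }
  have hP : ∀ z, alg P z = (Φ (alg A z)).toBlocks₁₁ := fun z => by
    induction z using MonoidAlgebra.induction_on with
    | of g => simp only [of_apply, alg_single, one_smul]; rfl
    | add x y hx hy => simp only [map_add, hx, hy]; rfl
    | smul r x hx => simp only [map_smul, hx]; rfl
  have hR : ∀ z, alg R z = (Φ (alg A z)).toBlocks₂₂ := fun z => by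
    induction z using MonoidAlgebra.induction_on with
    | of g => simp only [of_apply, alg_single, one_smul]; rfl
    | add x y hx hy => simp only [map_add, hx, hy]; rfl
    | smul r x hx => simp only [map_smul, hx]; rfl
  have hωP : ∀ ω, CentralBy A ω → CentralBy P ω := fun ω hω z => by
    rw [hP, hω z, AlgHom.commutes]
    ext i j
    simp [Matrix.toBlocks₁₁, Matrix.algebraMap_matrix_apply]
  have hωR : ∀ ω, CentralBy A ω → CentralBy R ω := fun ω hω z => by
    rw [hR, hω z, AlgHom.commutes]
    ext i j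
    simp [Matrix.toBlocks₂₂, Matrix.algebraMap_matrix_apply]
  obtain ⟨s, hs, hsω⟩ := ih a (by omega) P
  obtain ⟨t, ht, htω⟩ := ih c (by omega) R
  refine ⟨s + t, ?_, fun ω hω f hf => (Multiset.mem_add.mp hf).elim (hsω ω (hωP ω hω) f)
    (htω ω (hωR ω hω) f)⟩
  rw [Multiset.map_add, Multiset.sum_add, ← hs, ← ht]
  refine bchar_add A P R fun g => ?_
  show _ = (Φ (A g)).toBlocks₁₁.charpoly * (Φ (A g)).toBlocks₂₂.charpoly
  rw [← Matrix.charpoly_fromBlocks_zero₂₁ (M₁₂ := (Φ (A g)).toBlocks₁₂), ← hfb g, hΦ,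
    LinearMap.charpoly_toMatrix, Matrix.charpoly_toLin']

end Cfsg.Agent.Lib.BrauerChar
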