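import Mathlib
import Cfsg.Agent.Lib.BrauerChar.Decompose
import Cfsg.Agent.Lib.Blocks.ContribRank
import Cfsg.Agent.Lib.BC78.Subsections
import Cfsg.Agent.Lib.Brauer.Characterization
import Cfsg.Agent.Lib.Induced.Generalized

/-!
# Irreducible Brauer characters, decomposition numbers and blocks

* `isCharacter_of_coprime`: for a group of order prime to `p` they are characters;
* `pRegularPart_eq`: decomposition numbers, supported in the block;
* `mem_span_int`: an irreducible Brauer character of a block is an integral combination of the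
  regular parts of the characters of the block;
* `card_inBlock`: their number is the regular rank of the block;
* `projChar`: the principal indecomposable characters.
-/

set_option autoImplicit false
set_option linter.unusedSectionVars false
set_option linter.style.haveILetI false
set_option synthInstance.maxHeartbeats 100000

namespace Cfsg.Agent.Lib.BrauerChar

open MonoidAlgebra Cfsg.Agent.Lib.Blocks Cfsg.Agent.Lib.Blocks.Contrib
open Cfsg.Agent.Lib.Characters.Basic Cfsg.Agent.Lib.Induced.Basic
open Cfsg.Agent.Lib.BrauerMap.Basic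

universe u

attribute [local instance] Ideal.Quotient.field

variable {M : Ideal Cfsg.AlgInt} [M.IsMaximal] {p : ℕ} {G : Type u} [Group G] [Finite G]
  [Fact p.Prime]

theorem bchar_comp {H : Type u} [Group H] {ι : Type*} [Fintype ι] [DecidableEq ι]
    (A : G →* Matrix ι ι (Rk M)) (f : H →* G) (hf : Function.Injective f) (h : H) :
    bchar p (A.comp f) h = bchar p A (f h) := by
  simp [bchar, bcharA, orderOf_injective f hf h]

set_option maxHeartbeats 1000000 in
/-- The reduction of an irreducible character, with the scalars of the centre. -/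
theorem exists_reduction (hM : Cfsg.IsPModular p M) (χ : Cfsg.IrrCharacter G) :
    ∃ (n : ℕ) (A : G →* Matrix (Fin n) (Fin n) (Rk M)),
      bchar p A = Cfsg.pRegularPart p (χ : G → ℂ) ∧ CentralBy A (omegaBar M χ) := by
  classical
  obtain ⟨n, ρ, hirr, hρ⟩ := χ.2
  obtain ⟨σ, ⟨eq⟩, hσ⟩ := Induced.SplittingField.exists_rep_cycl n ρ
  have halg : ∀ g i j, IsAlgebraic ℚ (LinearMap.toMatrix' (σ g) i j) := by
    intro g i j
    have hζ : IsIntegral ℚ (Complex.exp (2 * Real.pi * Complex.I / (Monoid.exponent G : ℂ))) :=
      IsIntegral.of_pow (Nat.pos_of_ne_zero Monoid.exponent_ne_zero_of_finite) (by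
        rw [(Complex.isPrimitiveRoot_exp _ Monoid.exponent_ne_zero_of_finite).pow_eq_one]
        exact isIntegral_one)
    exact (IsIntegral.of_mem_of_fg _ hζ.fg_adjoin_singleton _ (hσ g i j)).isAlgebraic
  obtain ⟨b, hb⟩ := FirstPower.SmallReduction.exists_lattice_basis hM σ halg
  let T : G →* Matrix (Fin n) (Fin n) (localRing M) :=
    { toFun := fun g => Matrix.of fun i j => ⟨LinearMap.toMatrix b b (σ g) i j, hb g i j⟩
      map_one' := by
        ext i j
        show LinearMap.toMatrix b b (σ 1) i j = _
        rw [map_one, LinearMap.toMatrix_one, Matrix.one_apply, Matrix.one_apply]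
        split_ifs <;> rfl
      map_mul' := fun g h => by
        ext i j
        show LinearMap.toMatrix b b (σ (g * h)) i j = _
        rw [map_mul, LinearMap.toMatrix_mul, Matrix.mul_apply, Matrix.mul_apply]
        simp [Matrix.of_apply] }
  have hchar : ρ.character = σ.character :=
    Induced.SplittingField.char_eq_of_equiv ρ σ eq.toLinearEquiv fun g v =>
      eq.toIntertwiningMap.isIntertwining _ _ g v
  have htr : ∀ g, (((T g).trace : localRing M) : ℂ) = (χ : G → ℂ) g := by
    intro g
    rw [← hρ, hchar, Representation.character, LinearMap.trace_eq_matrix_trace ℂ b]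
    simp [T, Matrix.trace]
  refine ⟨n, ((residue M).mapMatrix.toMonoidHom).comp T, funext fun g => ?_, fun z => ?_⟩
  · rw [pRegularPart_apply]
    by_cases hg : p ∣ orderOf g
    · rw [if_pos hg, bchar_singular _ hg]
    · rw [if_neg hg, bchar_reduction hM T hg, htr]
  · obtain ⟨w, rfl⟩ := mapCenter_surjective residue_surjective z
    let TA : MonoidAlgebra (localRing M) G →ₐ[localRing M] Matrix (Fin n) (Fin n) (localRing M) :=
      MonoidAlgebra.lift (localRing M) (Matrix (Fin n) (Fin n) (localRing M)) G T
    have hsq : ∀ a : MonoidAlgebra (localRing M) G,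
        alg (((residue M).mapMatrix.toMonoidHom).comp T) (MonoidAlgebra.mapRingHom G (residue M) a) =
          (residue M).mapMatrix (TA a) := by
      intro a
      induction a using MonoidAlgebra.induction_linear with
      | zero => simp
      | add x y hx hy => simp only [map_add, hx, hy]
      | single g c =>
        rw [MonoidAlgebra.mapRingHom_single, alg_single]
        show _ = (residue M).mapMatrix (TA (single g c))
        rw [show TA (single g c) = c • T g from MonoidAlgebra.lift_single T g c]
        ext i j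
        simp
    have hTA : TA w.1 = algebraMap _ _ (omegaR M χ w) := by
      let wC : Subalgebra.center ℂ (MonoidAlgebra ℂ G) := mapCenter (localRing M).subtype w
      have hC : ∀ a : MonoidAlgebra (localRing M) G,
          LinearMap.toMatrix b b (σ.asAlgebraHom (MonoidAlgebra.mapRingHom G (localRing M).subtype a)) =
            (localRing M).subtype.mapMatrix (TA a) := by
        intro a
        induction a using MonoidAlgebra.induction_linear with
        | zero => simp
        | add x y hx hy => simp only [map_add, hx, hy]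
        | single g c =>
          rw [MonoidAlgebra.mapRingHom_single, Representation.asAlgebraHom_single, map_smul]
          rw [show TA (single g c) = c • T g from MonoidAlgebra.lift_single T g c]
          ext i j
          simp [T]
      haveI := hirr
      obtain ⟨c, hc⟩ := exists_scalar_of_center ρ wC.2
      have hσc : σ.asAlgebraHom wC.1 = c • 1 := by
        have hint : ∀ a, eq.toLinearEquiv.toLinearMap ∘ₗ ρ.asAlgebraHom a =
            σ.asAlgebraHom a ∘ₗ eq.toLinearEquiv.toLinearMap := by
          intro a
          induction a using MonoidAlgebra.induction_linear with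
          | zero => simp
          | add x y hx hy => rw [map_add, map_add, LinearMap.comp_add, LinearMap.add_comp, hx, hy]
          | single g r =>
            rw [Representation.asAlgebraHom_single, Representation.asAlgebraHom_single,
              LinearMap.comp_smul, LinearMap.smul_comp]
            exact congrArg _ (LinearMap.ext fun v => eq.toIntertwiningMap.isIntertwining _ _ g v)
        refine LinearMap.ext fun v => ?_
        obtain ⟨u, rfl⟩ := eq.toLinearEquiv.surjective v
        have h1 := LinearMap.congr_fun (hint wC.1) u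
        rw [hc] at h1
        simpa using h1.symm
      have hcω : c = omega χ wC := by
        have h1 := trace_asAlgebraHom ρ wC.1
        rw [hc, map_smul, LinearMap.trace_one, Module.finrank_fin_fun, hρ, smul_eq_mul] at h1
        have h2 : (χ : G → ℂ) 1 = n := by rw [← hρ, Representation.char_one, Module.finrank_fin_fun]
        rw [omega_apply, ← h1, h2, mul_div_cancel_right₀]
        rw [← h2]
        exact char_one_ne_zero χ
      have h3 : (localRing M).subtype.mapMatrix (TA w.1) =
          (localRing M).subtype.mapMatrix (algebraMap _ _ (omegaR M χ w)) := by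
        rw [← hC]
        show LinearMap.toMatrix b b (σ.asAlgebraHom wC.1) = _
        rw [hσc, hcω, map_smul, LinearMap.toMatrix_one]
        ext i j
        simp [Matrix.algebraMap_matrix_apply, Matrix.one_apply, wC]
        split_ifs <;> simp [coe_omegaR]
      exact Matrix.map_injective Subtype.val_injective h3
    rw [show (mapCenter (residue M) w).1 = MonoidAlgebra.mapRingHom G (residue M) w.1 from rfl, hsq, hTA,
      omegaBar_mapCenter]
    ext i j
    simp [Matrix.algebraMap_matrix_apply]
    split_ifs <;> simp

/-- The decomposition of an irreducible character. -/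
noncomputable def decompSet (hM : Cfsg.IsPModular p M) (χ : Cfsg.IrrCharacter G) :
    Multiset (IBr M p G) :=
  (decompose hM (exists_reduction hM χ).choose_spec.choose).choose

/-- The decomposition numbers. -/
noncomputable def dnum (hM : Cfsg.IsPModular p M) (χ : Cfsg.IrrCharacter G) (f : IBr M p G) : ℕ :=
  haveI : DecidableEq (IBr M p G) := Classical.decEq _
  (decompSet hM χ).count f

/-- The regular part of an irreducible character through the decomposition numbers. -/
theorem pRegularPart_eq (hM : Cfsg.IsPModular p M) [Fintype (IBr M p G)] (χ : Cfsg.IrrCharacter G) :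
    Cfsg.pRegularPart p (χ : G → ℂ) = ∑ f : IBr M p G, (dnum hM χ f : ℂ) • f.1 := by
  classical
  have h := (decompose hM (exists_reduction hM χ).choose_spec.choose).choose_spec.1
  refine ((exists_reduction hM χ).choose_spec.choose_spec.1.symm.trans h).trans ?_
  show ((decompSet hM χ).map fun f => f.1).sum = _
  rw [Finset.sum_multiset_map_count]
  rw [← Finset.sum_subset (Finset.subset_univ (decompSet hM χ).toFinset)]
  · refine Finset.sum_congr rfl fun f _ => ?_
    rw [dnum, Nat.cast_smul_eq_nsmul]
  · intro f _ hf
    rw [Multiset.mem_toFinset] at hf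
    rw [dnum, Multiset.count_eq_zero_of_notMem hf, Nat.cast_zero, zero_smul]

/-- The irreducible Brauer character belongs to the block. -/
def InBlock (B : Set (Cfsg.IrrCharacter G)) (f : IBr M p G) : Prop :=
  ∃ χ ∈ B, CentralBy f.rep (omegaBar M χ)

theorem centralBy_of_dnum_ne_zero (hM : Cfsg.IsPModular p M) {χ : Cfsg.IrrCharacter G}
    {f : IBr M p G} (h : dnum hM χ f ≠ 0) : CentralBy f.rep (omegaBar M χ) := by
  classical
  refine (decompose hM (exists_reduction hM χ).choose_spec.choose).choose_spec.2 _
    (exists_reduction hM χ).choose_spec.choose_spec.2 f ?_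
  show f ∈ decompSet hM χ
  by_contra hf
  exact h (Multiset.count_eq_zero_of_notMem hf)

theorem inBlock_iff {B : Set (Cfsg.IrrCharacter G)} (hB : Cfsg.IsPBlock M B) {f : IBr M p G}
    {χ : Cfsg.IrrCharacter G} (hχ : CentralBy f.rep (omegaBar M χ)) : InBlock B f ↔ χ ∈ B := by
  refine ⟨fun ⟨ψ, hψ, hψf⟩ => ?_, fun h => ⟨χ, h, hχ⟩⟩
  haveI : Nonempty (Fin f.deg) := ⟨⟨0, f.deg_pos⟩⟩
  have he : omegaBar M ψ = omegaBar M χ := AlgHom.ext fun z =>
    (algebraMap (Rk M) (Matrix (Fin f.deg) (Fin f.deg) (Rk M))).injective ((hψf z).symm.trans (hχ z))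
  rw [isPBlock_eq_blockOf hB hψ]
  exact mem_blockOf_iff.mpr he

/-- Decomposition numbers vanish outside the block. -/
theorem dnum_eq_zero (hM : Cfsg.IsPModular p M) {B : Set (Cfsg.IrrCharacter G)}
    (hB : Cfsg.IsPBlock M B) {χ : Cfsg.IrrCharacter G} {f : IBr M p G}
    (h : ¬ (χ ∈ B ↔ InBlock B f)) : dnum hM χ f = 0 := by
  by_contra h0
  exact h (inBlock_iff hB (centralBy_of_dnum_ne_zero hM h0)).symm

/-- Every irreducible Brauer character belongs to a block. -/
theorem exists_inBlock (f : IBr M p G) :
    ∃ B : Set (Cfsg.IrrCharacter G), Cfsg.IsPBlock M B ∧ InBlock B f := by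
  obtain ⟨ω, hω⟩ := exists_centralBy f.deg_pos f.rep f.full
  obtain ⟨χ, rfl⟩ := exists_omegaBar_eq ω
  exact ⟨_, isPBlock_blockOf χ, χ, mem_blockOf_self χ, hω⟩

/-! ## Groups of order prime to `p` -/

/-- An element killed by every full matrix representation is nilpotent. -/
theorem isNilpotent_of_killed {k : Type*} [Field k] [IsAlgClosed k] {A : Type*} [Ring A]
    [Algebra k A] [FiniteDimensional k A] {a : A}
    (h : ∀ (n : ℕ) (π : A →ₐ[k] Matrix (Fin n) (Fin n) k), Function.Surjective π → π a = 0) :
    IsNilpotent a := by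
  obtain ⟨N, hN⟩ := BrauerPairs.SimpleRep.exists_prod_eq_zero (k := k) (one_mul (1 : A))
    (fun z => by rw [one_mul, mul_one]) (S := {a}) (fun z _ => one_mul z)
    (fun n π hπ _ z hz => by rw [Set.mem_singleton_iff.mp hz]; exact h n π hπ)
  refine ⟨N + 1, ?_⟩
  have h1 : ∀ t : ℕ, a ^ (t + 1) ∈ Submodule.span k ({a} : Set A) ^ (t + 1) := by
    intro t
    induction t with
    | zero =>
      simp only [zero_add, pow_one]
      exact Submodule.subset_span (Set.mem_singleton a)
    | succ t ih =>
      rw [pow_succ a, pow_succ (Submodule.span k ({a} : Set A))]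
      exact Submodule.mul_mem_mul ih (Submodule.subset_span (Set.mem_singleton a))
  have h2 := h1 N
  rw [hN, Submodule.mem_bot] at h2
  exact h2

set_option maxHeartbeats 1000000 in
/-- The degrees squared cover the group order. -/
theorem card_le_sum_deg_sq (hM : Cfsg.IsPModular p M) (hG : ¬ p ∣ Nat.card G)
    [Fintype (IBr M p G)] : Nat.card G ≤ ∑ f : IBr M p G, f.deg ^ 2 := by
  classical
  haveI := isAlgClosed_residueField (M := M)
  haveI := Fintype.ofFinite G
  let J : MonoidAlgebra (Rk M) G →ₗ[Rk M]
      ∀ f : IBr M p G, Matrix (Fin f.deg) (Fin f.deg) (Rk M) :=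
    LinearMap.pi fun f => (alg f.rep).toLinearMap
  have hinj : Function.Injective J := by
    rw [← LinearMap.ker_eq_bot, LinearMap.ker_eq_bot']
    intro x hx
    have hx0 : ∀ f : IBr M p G, alg f.rep x = 0 := fun f => congrFun hx f
    have hall : ∀ (y : MonoidAlgebra (Rk M) G) (n : ℕ)
        (π : MonoidAlgebra (Rk M) G →ₐ[Rk M] Matrix (Fin n) (Fin n) (Rk M)),
        Function.Surjective π → π (x * y) = 0 := by
      intro y n π hπ
      rcases Nat.eq_zero_or_pos n with rfl | hn
      · exact Subsingleton.elim _ _
      let A : G →* Matrix (Fin n) (Fin n) (Rk M) :=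
        π.toMonoidHom.comp (MonoidAlgebra.of (Rk M) G)
      have hA : alg A = π := AlgHom.ext fun z => by
        induction z using MonoidAlgebra.induction_on with
        | of g => rw [of_apply, alg_single, one_smul]; rfl
        | add a b ha hb => rw [map_add, map_add, ha, hb]
        | smul r a ha => rw [map_smul, map_smul, ha]
      let f : IBr M p G := ⟨bchar p A, n, hn, A, by rw [FullSpan, hA]; exact hπ, rfl⟩
      rw [← hA]
      refine BrauerPairs.SimpleRep.eq_zero_of_trace fun Y => ?_
      obtain ⟨w, hw⟩ := hπ Y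
      rw [← hw, ← hA, ← map_mul, trace_alg_eq hM A f.rep f.bchar_rep.symm, map_mul, map_mul,
        hx0 f, zero_mul, mul_zero, Matrix.trace_zero]
    haveI : Module.Finite (Rk M) (MonoidAlgebra (Rk M) G) :=
      Module.Finite.of_basis (MonoidAlgebra.basis G (Rk M))
    have hnil : ∀ y, IsNilpotent (x * y) := fun y => isNilpotent_of_killed (hall y)
    refine MonoidAlgebra.coeff_injective (Finsupp.ext fun g => ?_)
    have h1 : IsNilpotent (LinearMap.mulLeft (Rk M) (x * single g⁻¹ (1 : Rk M))) := by
      obtain ⟨N, hN⟩ := hnil (single g⁻¹ 1)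
      exact ⟨N, by rw [LinearMap.pow_mulLeft, hN, LinearMap.mulLeft_zero_eq_zero]⟩
    have h2 := (LinearMap.isNilpotent_trace_of_isNilpotent h1).eq_zero
    have h3 : LinearMap.trace (Rk M) (MonoidAlgebra (Rk M) G)
        (LinearMap.mulLeft (Rk M) (x * single g⁻¹ (1 : Rk M))) =
        (Nat.card G : Rk M) * x.coeff g := by
      rw [LinearMap.trace_eq_matrix_trace (Rk M) (MonoidAlgebra.basis G (Rk M))]
      have hd : ∀ v : G, (LinearMap.toMatrix (MonoidAlgebra.basis G (Rk M))
          (MonoidAlgebra.basis G (Rk M)) (LinearMap.mulLeft (Rk M) (x * single g⁻¹ 1))).diag v =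
          x.coeff g := by
        intro v
        rw [Matrix.diag_apply, LinearMap.toMatrix_apply, LinearMap.mulLeft_apply,
          MonoidAlgebra.basis_apply, mul_assoc, single_mul_single, mul_one]
        change (x * single (g⁻¹ * v) (1 : Rk M)).coeff v = _
        rw [coeff_mul_single_apply]
        simp
      rw [Matrix.trace, Finset.sum_congr rfl fun v _ => hd v, Finset.sum_const, Finset.card_univ,
        nsmul_eq_mul, Nat.card_eq_fintype_card]
    rw [h3] at h2
    have hne : (Nat.card G : Rk M) ≠ 0 := fun h => hG ((natCast_mem_ideal_iff hM _).mp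
      (Ideal.Quotient.eq_zero_iff_mem.mp (by rw [map_natCast]; exact h)))
    simpa using (mul_eq_zero.mp h2).resolve_left hne
  have h := LinearMap.finrank_le_finrank_of_injective hinj
  rw [Module.finrank_pi_fintype, Module.finrank_eq_card_basis (MonoidAlgebra.basis G (Rk M))] at h
  simpa [Module.finrank_matrix, Nat.card_eq_fintype_card, sq] using h

/-- For a group of order prime to `p` the irreducible Brauer characters are characters. -/
theorem isCharacter_of_coprime (hM : Cfsg.IsPModular p M) (hG : ¬ p ∣ Nat.card G)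
    (f : IBr M p G) : Cfsg.IsCharacter G f.1 := by
  classical
  haveI := finite_ibr (G := G) hM
  haveI := Fintype.ofFinite (IBr M p G)
  haveI := Fintype.ofFinite G
  haveI := Fintype.ofFinite (Cfsg.IrrCharacter G)
  have hreg : ∀ g : G, ¬ p ∣ orderOf g := fun g h => hG (h.trans (orderOf_dvd_natCard g))
  have hχ : ∀ χ : Cfsg.IrrCharacter G, (χ : G → ℂ) = ∑ e : IBr M p G, (dnum hM χ e : ℂ) • e.1 :=
    fun χ => by
      rw [← pRegularPart_eq hM χ]
      exact funext fun g => by rw [pRegularPart_apply, if_neg (hreg g)]
  have hdeg : ∀ χ : Cfsg.IrrCharacter G,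
      Cfsg.charDegree (χ : G → ℂ) = ∑ e : IBr M p G, dnum hM χ e * e.deg := by
    intro χ
    have h := congrFun (hχ χ) 1
    simp only [char_one_eq_degree, Finset.sum_apply, Pi.smul_apply, smul_eq_mul] at h
    rw [Finset.sum_congr rfl fun e _ => show (dnum hM χ e : ℂ) * e.1 1 =
      ((dnum hM χ e * e.deg : ℕ) : ℂ) by
        rw [← e.bchar_rep, bchar_one hM, Fintype.card_fin]; push_cast; rfl] at h
    exact_mod_cast h
  have hocc : ∀ e : IBr M p G, ∃ χ : Cfsg.IrrCharacter G, dnum hM χ e ≠ 0 := by
    intro e
    by_contra h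
    push Not at h
    have he : Cfsg.IsClassFunction G e.1 := e.bchar_rep ▸ bchar_isClassFunction e.rep
    have h1 : e.1 = ∑ χ : Cfsg.IrrCharacter G, Cfsg.classInner e.1 (χ : G → ℂ) •
        ∑ a : IBr M p G, (dnum hM χ a : ℂ) • a.1 :=
      (Characters.Complete.classFunction_eq_sum he).trans (Finset.sum_congr rfl fun χ _ => by
        rw [← hχ χ])
    simp only [Finset.smul_sum] at h1
    rw [Finset.sum_comm] at h1
    simp only [smul_smul, ← Finset.sum_smul] at h1
    have h2 : ∑ a : IBr M p G, ((∑ χ : Cfsg.IrrCharacter G,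
        Cfsg.classInner e.1 (χ : G → ℂ) * (dnum hM χ a : ℂ)) - if a = e then 1 else 0) • a.1 = 0 := by
      simp only [sub_smul, Finset.sum_sub_distrib, ite_smul, one_smul, zero_smul,
        Finset.sum_ite_eq', Finset.mem_univ, if_true]
      rw [← h1, sub_self]
    have h3 := Fintype.linearIndependent_iff.mp (linearIndependent_val hM) _ h2 e
    simp [h] at h3
  have htot : ∑ χ : Cfsg.IrrCharacter G, Cfsg.charDegree (χ : G → ℂ) ^ 2 = Nat.card G := by
    have h := sum_degree_mul_char (G := G) 1
    rw [if_pos rfl] at h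
    simp only [char_one_eq_degree] at h
    have h' : ((∑ χ : Cfsg.IrrCharacter G, Cfsg.charDegree (χ : G → ℂ) ^ 2 : ℕ) : ℂ) =
        (Nat.card G : ℂ) := by
      push_cast
      rw [← h]
      simp [sq]
    exact_mod_cast h'
  have hA : ∀ χ : Cfsg.IrrCharacter G, ∑ e : IBr M p G, (dnum hM χ e * e.deg) ^ 2 ≤
      Cfsg.charDegree (χ : G → ℂ) ^ 2 := fun χ => by
    rw [hdeg]
    exact Finset.sum_sq_le_sq_sum_of_nonneg fun e _ => Nat.zero_le _
  have hB : ∀ e : IBr M p G, e.deg ^ 2 ≤ ∑ χ : Cfsg.IrrCharacter G, (dnum hM χ e * e.deg) ^ 2 := by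
    intro e
    obtain ⟨χ, hne⟩ := hocc e
    refine le_trans ?_ (Finset.single_le_sum (fun a _ => Nat.zero_le ((dnum hM a e * e.deg) ^ 2))
      (Finset.mem_univ χ))
    exact Nat.pow_le_pow_left (Nat.le_mul_of_pos_left _ (Nat.pos_of_ne_zero hne)) 2
  have h1 := Finset.sum_le_sum fun χ (_ : χ ∈ Finset.univ) => hA χ
  have h2 := Finset.sum_le_sum fun e (_ : e ∈ Finset.univ) => hB e
  rw [Finset.sum_comm] at h1
  have h3 := card_le_sum_deg_sq hM hG
  rw [htot] at h1
  have hAeq := (Finset.sum_eq_sum_iff_of_le fun χ _ => hA χ).mp (by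
    rw [Finset.sum_comm, htot]; omega)
  have hBeq := (Finset.sum_eq_sum_iff_of_le (s := Finset.univ) fun e _ => hB e).mp (by omega)
  obtain ⟨χ, hne⟩ := hocc f
  have hone : dnum hM χ f = 1 := by
    have h4 := hBeq f (Finset.mem_univ f)
    have h5 : (dnum hM χ f * f.deg) ^ 2 ≤ f.deg ^ 2 := h4 ▸
      Finset.single_le_sum (fun a _ => Nat.zero_le ((dnum hM a f * f.deg) ^ 2)) (Finset.mem_univ χ)
    have h6 := (Nat.pow_le_pow_iff_left two_ne_zero).mp h5
    have h7 : dnum hM χ f * f.deg ≤ 1 * f.deg := by omega
    have := Nat.le_of_mul_le_mul_right h7 f.deg_pos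
    omega
  have hzero : ∀ e, e ≠ f → dnum hM χ e = 0 := by
    intro e hef
    by_contra he
    have h4 := hAeq χ (Finset.mem_univ χ)
    rw [hdeg, ← Finset.add_sum_erase _ _ (Finset.mem_univ f),
      ← Finset.add_sum_erase _ (fun e => dnum hM χ e * e.deg) (Finset.mem_univ f)] at h4
    have h5 : 0 < ∑ a ∈ (Finset.univ : Finset (IBr M p G)).erase f, dnum hM χ a * a.deg :=
      lt_of_lt_of_le (Nat.mul_pos (Nat.pos_of_ne_zero he) e.deg_pos)
        (Finset.single_le_sum (f := fun a => dnum hM χ a * a.deg) (fun a _ => Nat.zero_le _)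
          (Finset.mem_erase.mpr ⟨hef, Finset.mem_univ e⟩))
    have h6 := Finset.sum_sq_le_sq_sum_of_nonneg (s := (Finset.univ : Finset (IBr M p G)).erase f)
      (f := fun a => dnum hM χ a * a.deg) fun a _ => Nat.zero_le _
    have h7 : 0 < dnum hM χ f * f.deg := by rw [hone, one_mul]; exact f.deg_pos
    nlinarith [Nat.mul_pos h5 h7]
  have hf : f.1 = (χ : G → ℂ) := by
    rw [hχ χ, Finset.sum_eq_single f (fun e _ h => by rw [hzero e h, Nat.cast_zero, zero_smul])
      (fun h => absurd (Finset.mem_univ f) h), hone, Nat.cast_one, one_smul]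
  exact hf ▸ isCharacter_irr χ

end Cfsg.Agent.Lib.BrauerChar
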