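import Mathlib
import Cfsg.Agent.Lib.BrauerChar.Block
import Cfsg.Agent.Lib.Brauer.Monomial
import Cfsg.Agent.Lib.Blocks.Orthogonality

/-!
# The basis of irreducible Brauer characters of a block

`mem_span_int`, `card_inBlock`, the principal indecomposable characters `projChar` and the
formula `sum_degree_sq` for the squares of the degrees.
-/

set_option autoImplicit false
set_option linter.unusedSectionVars false
set_option linter.style.haveILetI false
set_option synthInstance.maxHeartbeats 100000

namespace Cfsg.Agent.Lib.BrauerChar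

open MonoidAlgebra Cfsg.Agent.Lib.Blocks Cfsg.Agent.Lib.Blocks.Contrib
open Cfsg.Agent.Lib.Characters.Basic Cfsg.Agent.Lib.Induced.Basic
open Cfsg.Agent.Lib.Brauer.Elementary Cfsg.Agent.Lib.Brauer.Monomial
open scoped ComplexConjugate

universe u

attribute [local instance] Ideal.Quotient.field

variable {M : Ideal Cfsg.AlgInt} [M.IsMaximal] {p : ℕ} {G : Type u} [Group G] [Finite G]
  [Fact p.Prime]

/-- The Brauer character at a `p'`-part is a generalized character. -/
theorem isGeneralized_comp_pow (hM : Cfsg.IsPModular p M) (f : IBr M p G) {k m n : ℕ}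
    (hmn : Nat.card G = m * n) (hm : ∃ i, m = p ^ i) (hn : ¬ p ∣ n) (hk0 : k ≡ 0 [MOD m])
    (hk1 : k ≡ 1 [MOD n]) : Cfsg.IsGeneralizedCharacter G fun g => f.1 (g ^ k) := by
  classical
  haveI := Fintype.ofFinite G
  have hcl : Cfsg.IsClassFunction G fun g => f.1 (g ^ k) := fun g h => by
    show f.1 ((h * g * h⁻¹) ^ k) = f.1 (g ^ k)
    rw [conj_pow, ← f.bchar_rep]
    exact bchar_isClassFunction f.rep _ h
  refine Brauer.Characterization.isGeneralized_of_mem (P := IsElem (G := G))
    (Brauer.Characterization.mem_of_elementary ℤ hcl ?_)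
  intro E _ q hq hel
  haveI : Fact q.Prime := ⟨hq⟩
  obtain ⟨z, hz, hzo, a, ha⟩ := hel
  obtain ⟨P⟩ := (inferInstance : Nonempty (Sylow q E))
  obtain ⟨b, hPb⟩ := IsPGroup.iff_card.1 P.isPGroup'
  haveI : (Subgroup.zpowers z).Normal := ⟨fun y hy w => by
    rw [Subgroup.mem_center_iff.1 ((Subgroup.zpowers_le.2 hz) hy) w, mul_inv_cancel_right]; exact hy⟩
  have hTop : Subgroup.zpowers z ⊔ (P : Subgroup E) = ⊤ := by
    apply Subgroup.index_eq_one.1
    exact Nat.eq_one_of_dvd_coprimes
      (((hq.coprime_iff_not_dvd.2 P.not_dvd_index).pow_left a))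
      (ha ▸ Subgroup.index_dvd_of_le le_sup_left) (Subgroup.index_dvd_of_le le_sup_right)
  have hdec : ∀ e : E, ∃ i : ℤ, ∃ y ∈ (P : Subgroup E), z ^ i * y = e := by
    intro e
    obtain ⟨c, hc, y, hy, h⟩ := Subgroup.mem_sup_of_normal_left.1 (hTop ▸ Subgroup.mem_top e)
    obtain ⟨i, rfl⟩ := Subgroup.mem_zpowers_iff.1 hc
    exact ⟨i, y, hy, h⟩
  have hEo : ∀ y : E, orderOf y ∣ m * n := fun y => by
    rw [← hmn, ← Subgroup.orderOf_coe]; exact orderOf_dvd_natCard _
  obtain ⟨i₀, hi₀⟩ := hm
  have hp := (Fact.out : p.Prime)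
  have hP : (∀ y ∈ (P : Subgroup E), y ^ k = y) ∨ (∀ y ∈ (P : Subgroup E), y ^ k = 1) := by
    have hord : ∀ y ∈ (P : Subgroup E), orderOf y ∣ q ^ b := fun y hy =>
      hPb ▸ (Subgroup.orderOf_dvd_natCard _ hy)
    by_cases hqp : q = p
    · right
      intro y hy
      have h1 : orderOf y ∣ m :=
        ((Nat.Coprime.coprime_dvd_left (hord y hy)
          ((hq.coprime_iff_not_dvd.2 (hqp ▸ hn)).pow_left b))).dvd_of_dvd_mul_right (hEo y)
      exact orderOf_dvd_iff_pow_eq_one.1 (h1.trans (Nat.modEq_zero_iff_dvd.1 hk0))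
    · left
      intro y hy
      have h1 : orderOf y ∣ n := by
        refine (Nat.Coprime.coprime_dvd_left (hord y hy) ?_).dvd_of_dvd_mul_left (hEo y)
        rw [hi₀]
        exact Nat.Coprime.pow _ _ ((Nat.coprime_primes hq hp).mpr hqp)
      conv_rhs => rw [← pow_one y]
      rw [pow_eq_pow_iff_modEq]
      exact hk1.of_dvd h1
  have hzc : ∀ (i : ℤ) (e : E), Commute (z ^ i) e := fun i e =>
    Commute.zpow_left (Subgroup.mem_center_iff.1 hz e).symm i
  let s : E →* E :=
    { toFun := fun e => e ^ k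
      map_one' := one_pow k
      map_mul' := by
        intro x y
        obtain ⟨i, q, hq, rfl⟩ := hdec x
        obtain ⟨j, r, hr, rfl⟩ := hdec y
        have e1 : z ^ i * q * (z ^ j * r) = z ^ i * z ^ j * (q * r) := by
          rw [mul_assoc (z ^ i), ← mul_assoc q, ← (hzc j q).eq]; simp only [mul_assoc]
        have e2 : (q * r) ^ k = q ^ k * r ^ k := by
          rcases hP with h | h
          · rw [h q hq, h r hr, h _ ((P : Subgroup E).mul_mem hq hr)]
          · rw [h q hq, h r hr, h _ ((P : Subgroup E).mul_mem hq hr), one_mul]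
        have e3 : (z ^ i) ^ k * q ^ k * ((z ^ j) ^ k * r ^ k) =
            (z ^ i) ^ k * (z ^ j) ^ k * (q ^ k * r ^ k) := by
          rw [mul_assoc ((z ^ i) ^ k), ← mul_assoc (q ^ k),
            ← ((hzc j (q ^ k)).pow_left k).eq]; simp only [mul_assoc]
        rw [e1, (hzc i q).mul_pow, (hzc j r).mul_pow, e3,
          ← e2, ← (hzc i (z ^ j)).mul_pow]
        exact Commute.mul_pow ((hzc i (q * r)).mul_left (hzc j (q * r))) k }
  have hBord : ∀ y : s.range, ¬ p ∣ orderOf ((y : E) : G) := by
    rintro ⟨_, e, rfl⟩ hd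
    refine hn (hd.trans ?_)
    rw [Subgroup.orderOf_coe]
    show orderOf (e ^ k) ∣ n
    rw [orderOf_dvd_iff_pow_eq_one, ← pow_mul, ← orderOf_dvd_iff_pow_eq_one]
    exact (hEo e).trans (mul_dvd_mul_right (Nat.modEq_zero_iff_dvd.1 hk0) n)
  haveI : Fintype s.range := Fintype.ofFinite _
  have hcard : ¬ p ∣ Nat.card s.range := fun hd => by
    obtain ⟨y, hy⟩ := exists_prime_orderOf_dvd_card' (G := s.range) p hd
    exact hBord y (by rw [Subgroup.orderOf_coe, Subgroup.orderOf_coe, hy])
  let ι : s.range →* G := E.subtype.comp s.range.subtype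
  have hι : Function.Injective ι := E.subtype_injective.comp s.range.subtype_injective
  obtain ⟨S, hS, -⟩ := decompose hM (f.rep.comp ι)
  have hchar : Cfsg.IsCharacter s.range (fun y => f.1 ((y : E) : G)) := by
    have h1 : (fun y : s.range => f.1 ((y : E) : G)) = bchar p (f.rep.comp ι) := funext fun y => by
      rw [bchar_comp f.rep ι hι, f.bchar_rep]; rfl
    rw [h1, hS, Finset.sum_multiset_map_count]
    exact isCharacter_sum _ fun e _ => Brauer.Characterization.isCharacter_nsmul
      (isCharacter_of_coprime hM hcard e) _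
  have hres : Cfsg.IsCharacter E (fun e : E => f.1 ((e : G) ^ k)) := by
    have h1 := isCharacter_comp s.rangeRestrict hchar
    have h2 : (fun e : E => f.1 ((e : G) ^ k)) =
        fun e : E => f.1 (((s.rangeRestrict e : s.range) : E) : G) := funext fun e => by
      show f.1 _ = f.1 ((e ^ k : E) : G)
      rw [SubgroupClass.coe_pow]
    rw [h2]
    exact h1
  exact Submodule.span_mono (fun _ h => by
    obtain ⟨H, -, l, rfl⟩ := h
    exact ⟨H, trivial, l, rfl⟩) (char_mem hres)

/-- An irreducible Brauer character of a block is an integral combination of the regular parts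
of its characters. -/
theorem mem_span_int (hM : Cfsg.IsPModular p M) {B : Set (Cfsg.IrrCharacter G)}
    (hB : Cfsg.IsPBlock M B) {f : IBr M p G} (hf : InBlock B f) :
    f.1 ∈ Submodule.span ℤ
      ((fun χ : Cfsg.IrrCharacter G => Cfsg.pRegularPart p (χ : G → ℂ)) '' B) := by
  classical
  haveI := finite_ibr (G := G) hM
  haveI := Fintype.ofFinite (IBr M p G)
  haveI := Fintype.ofFinite G
  haveI := Fintype.ofFinite (Cfsg.IrrCharacter G)
  have hp := (Fact.out : p.Prime)
  set i := (Nat.card G).factorization p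
  have hmn : Nat.card G = p ^ i * (Nat.card G / p ^ i) := (Nat.ordProj_mul_ordCompl_eq_self _ p).symm
  have hn : ¬ p ∣ Nat.card G / p ^ i := Nat.not_dvd_ordCompl hp Nat.card_pos.ne'
  obtain ⟨k, hk0, hk1⟩ := Nat.chineseRemainder (Nat.Coprime.pow_left i (hp.coprime_iff_not_dvd.2 hn)) 0 1
  have hgen := isGeneralized_comp_pow hM f hmn ⟨i, rfl⟩ hn hk0 hk1
  have hexp := Induced.Generalized.eq_sum_irr hgen
  choose a ha using fun χ : Cfsg.IrrCharacter G => Induced.Generalized.exists_classInner_int hgen
    (Induced.Generalized.of_isCharacter (isCharacter_irr χ))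
  have hf1 : f.1 = ∑ χ : Cfsg.IrrCharacter G, (a χ : ℂ) • Cfsg.pRegularPart p (χ : G → ℂ) := by
    funext g
    simp only [Finset.sum_apply, Pi.smul_apply, smul_eq_mul, pRegularPart_apply]
    by_cases hg : p ∣ orderOf g
    · simp only [if_pos hg, mul_zero, Finset.sum_const_zero]
      rw [← f.bchar_rep, bchar_singular _ hg]
    · simp only [if_neg hg]
      have hgk : g ^ k = g := by
        conv_rhs => rw [← pow_one g]
        rw [pow_eq_pow_iff_modEq]
        refine hk1.of_dvd ?_
        exact ((Nat.Coprime.pow_left i (hp.coprime_iff_not_dvd.2 hg)).symm).dvd_of_dvd_mul_left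
          (hmn ▸ orderOf_dvd_natCard g)
      have h1 := congrFun hexp g
      simp only [hgk, Finset.sum_apply, Pi.smul_apply, smul_eq_mul, ha] at h1
      exact h1
  have h2 : ∑ e : IBr M p G, ((∑ χ ∈ Finset.univ.filter fun χ : Cfsg.IrrCharacter G => χ ∉ B,
      (a χ : ℂ) * (dnum hM χ e : ℂ))) • e.1 = ∑ χ ∈ Finset.univ.filter fun χ : Cfsg.IrrCharacter G =>
        χ ∉ B, (a χ : ℂ) • Cfsg.pRegularPart p (χ : G → ℂ) := by
    simp only [Finset.sum_smul, ← smul_smul]
    rw [Finset.sum_comm]
    exact Finset.sum_congr rfl fun χ _ => by rw [pRegularPart_eq hM χ, Finset.smul_sum]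
  have hsplit : f.1 = (∑ χ ∈ Finset.univ.filter fun χ : Cfsg.IrrCharacter G => χ ∈ B,
      (a χ : ℂ) • Cfsg.pRegularPart p (χ : G → ℂ)) + ∑ χ ∈ Finset.univ.filter fun χ : Cfsg.IrrCharacter G =>
        χ ∉ B, (a χ : ℂ) • Cfsg.pRegularPart p (χ : G → ℂ) :=
    hf1.trans (Finset.sum_filter_add_sum_filter_not Finset.univ (· ∈ B) _).symm
  have h3 : ∑ χ ∈ Finset.univ.filter (fun χ : Cfsg.IrrCharacter G => χ ∉ B),
      (a χ : ℂ) • Cfsg.pRegularPart p (χ : G → ℂ) = 0 := by
    rw [← h2]
    refine Finset.sum_eq_zero fun e _ => ?_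
    by_cases he : InBlock B e
    · rw [Finset.sum_eq_zero fun χ hχ => ?_, zero_smul]
      rw [dnum_eq_zero hM hB fun h => (Finset.mem_filter.mp hχ).2 (h.mpr he), Nat.cast_zero, mul_zero]
    · -- compare the coefficient of `e` in the two expansions
      let c : IBr M p G → ℂ := fun e => ∑ χ : Cfsg.IrrCharacter G, (a χ : ℂ) * (dnum hM χ e : ℂ)
      have hc : ∑ e : IBr M p G, (c e - if e = f then 1 else 0) • e.1 = 0 := by
        simp only [sub_smul, Finset.sum_sub_distrib, ite_smul, one_smul, zero_smul,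
          Finset.sum_ite_eq', Finset.mem_univ, if_true]
        rw [sub_eq_zero]
        simp only [c, Finset.sum_smul, ← smul_smul]
        rw [Finset.sum_comm]
        refine (Finset.sum_congr rfl fun χ _ => ?_).trans hf1.symm
        rw [pRegularPart_eq hM χ, Finset.smul_sum]
      have h4 := Fintype.linearIndependent_iff.mp (linearIndependent_val hM) _ hc e
      rw [if_neg (fun h : e = f => he (h ▸ hf)), sub_zero] at h4
      simp only [c] at h4
      rw [← Finset.sum_filter_add_sum_filter_not Finset.univ (· ∈ B)] at h4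
      rw [Finset.sum_eq_zero (s := Finset.univ.filter (· ∈ B)) fun χ hχ => by
        rw [dnum_eq_zero hM hB fun h => he (h.mp (Finset.mem_filter.mp hχ).2), Nat.cast_zero,
          mul_zero], zero_add] at h4
      rw [h4, zero_smul]
  rw [hsplit, h3, add_zero]
  refine Submodule.sum_mem _ fun χ hχ => ?_
  rw [Int.cast_smul_eq_zsmul]
  exact Submodule.smul_mem _ _ (Submodule.subset_span ⟨χ, (Finset.mem_filter.mp hχ).2, rfl⟩)

/-- The number of irreducible Brauer characters of a block is its regular rank. -/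
theorem card_inBlock (hM : Cfsg.IsPModular p M) {B : Set (Cfsg.IrrCharacter G)}
    (hB : Cfsg.IsPBlock M B) :
    Nat.card {f : IBr M p G // InBlock B f} = Cfsg.blockRank p B := by
  classical
  haveI := finite_ibr (G := G) hM
  haveI := Fintype.ofFinite (IBr M p G)
  haveI := Fintype.ofFinite {f : IBr M p G // InBlock B f}
  have heq : Submodule.span ℂ (Set.range fun f : {f : IBr M p G // InBlock B f} => f.1.1) =
      Submodule.span ℂ ((fun χ : Cfsg.IrrCharacter G => Cfsg.pRegularPart p (χ : G → ℂ)) '' B) := by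
    refine le_antisymm (Submodule.span_le.mpr ?_) (Submodule.span_le.mpr ?_)
    · rintro _ ⟨f, rfl⟩
      exact Submodule.span_le_restrictScalars ℤ ℂ _ (mem_span_int hM hB f.2)
    · rintro _ ⟨χ, hχ, rfl⟩
      show Cfsg.pRegularPart p (χ : G → ℂ) ∈ _
      rw [pRegularPart_eq hM χ]
      refine Submodule.sum_mem _ fun f _ => ?_
      by_cases hf : InBlock B f
      · exact Submodule.smul_mem _ _ (Submodule.subset_span ⟨⟨f, hf⟩, rfl⟩)
      · rw [dnum_eq_zero hM hB fun h => hf (h.mp hχ), Nat.cast_zero, zero_smul]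
        exact zero_mem _
  rw [Cfsg.blockRank, ← heq, Nat.card_eq_fintype_card]
  exact (finrank_span_eq_card ((linearIndependent_val hM).comp (fun f : {f : IBr M p G // InBlock B f} => f.1)
    Subtype.val_injective)).symm

/-- The principal indecomposable character of an irreducible Brauer character. -/
noncomputable def projChar (hM : Cfsg.IsPModular p M) (B : Set (Cfsg.IrrCharacter G))
    (f : IBr M p G) : G → ℂ :=
  ∑ χ ∈ bset B, (dnum hM χ f : ℂ) • (χ : G → ℂ)

/-- Principal indecomposable characters vanish on the singular elements. -/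
theorem projChar_singular (hM : Cfsg.IsPModular p M) {B : Set (Cfsg.IrrCharacter G)}
    (hB : Cfsg.IsPBlock M B) (f : IBr M p G) {g : G} (hg : p ∣ orderOf g) :
    projChar hM B f g = 0 := by
  classical
  haveI := finite_ibr (G := G) hM
  haveI := Fintype.ofFinite (IBr M p G)
  haveI := Fintype.ofFinite G
  have h0 : ∑ e : IBr M p G, (∑ χ ∈ bset B, (dnum hM χ e : ℂ) * (χ : G → ℂ) g) • e.1 = 0 := by
    funext y
    simp only [Finset.sum_apply, Pi.smul_apply, smul_eq_mul, Pi.zero_apply, Finset.sum_mul]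
    rw [Finset.sum_comm]
    have h1 : ∀ χ ∈ bset B, (∑ e : IBr M p G, (dnum hM χ e : ℂ) * (χ : G → ℂ) g * e.1 y) =
        Cfsg.pRegularPart p (χ : G → ℂ) y * (χ : G → ℂ) g := fun χ _ => by
      rw [pRegularPart_eq hM χ]
      simp only [Finset.sum_apply, Pi.smul_apply, smul_eq_mul, Finset.sum_mul]
      exact Finset.sum_congr rfl fun e _ => by ring
    rw [Finset.sum_congr rfl h1]
    by_cases hy : p ∣ orderOf y
    · simp [pRegularPart_apply, hy]
    · simp only [pRegularPart_apply, if_neg hy]
      have hi : ∀ χ : Cfsg.IrrCharacter G, (χ : G → ℂ) g = conj ((χ : G → ℂ) g⁻¹) := fun χ => by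
        rw [← apply_inv (isCharacter_irr χ), inv_inv]
      simp only [hi]
      have h2 := weak_orthogonality hM hB (x := y) (y := g⁻¹) hy (by rwa [orderOf_inv])
      rwa [finsum_mem_bset] at h2
  have h := Fintype.linearIndependent_iff.mp (linearIndependent_val hM) _ h0 f
  simp only [projChar, Finset.sum_apply, Pi.smul_apply, smul_eq_mul]
  exact h

/-- The degree of a principal indecomposable character. -/
noncomputable def projDeg (hM : Cfsg.IsPModular p M) (B : Set (Cfsg.IrrCharacter G))
    (f : IBr M p G) : ℕ :=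
  ∑ χ ∈ bset B, dnum hM χ f * Cfsg.charDegree (χ : G → ℂ)

/-- The degree of a principal indecomposable character is divisible by the `p`-part of the
group order. -/
theorem pow_dvd_projDeg (hM : Cfsg.IsPModular p M) {B : Set (Cfsg.IrrCharacter G)}
    (hB : Cfsg.IsPBlock M B) (f : IBr M p G) :
    p ^ (Nat.card G).factorization p ∣ projDeg hM B f := by
  classical
  haveI := Fintype.ofFinite G
  obtain ⟨P⟩ : Nonempty (Sylow p G) := inferInstance
  haveI := Fintype.ofFinite (P : Subgroup G)
  have hone : ∀ χ : Cfsg.IrrCharacter G, ∃ c : ℕ,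
      ∑ x : (P : Subgroup G), (χ : G → ℂ) x = (c : ℂ) * Nat.card (P : Subgroup G) := by
    intro χ
    obtain ⟨c, hc⟩ := exists_classInner_nat
      (isCharacter_comp (P : Subgroup G).subtype (isCharacter_irr χ))
      (isCharacter_irr (oneChar (P : Subgroup G)))
    refine ⟨c, ?_⟩
    rw [← hc, Cfsg.classInner]
    simp only [Function.comp_apply, Subgroup.coe_subtype]
    rw [mul_comm, ← mul_assoc, Nat.card_eq_fintype_card, mul_inv_cancel₀ (by
      exact_mod_cast Fintype.card_ne_zero), one_mul]
    exact Finset.sum_congr rfl fun x _ => by simp [oneChar]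
  choose c hc using hone
  have hsum : ∑ x : (P : Subgroup G), projChar hM B f x = projChar hM B f ((1 : (P : Subgroup G)) : G) :=
    Finset.sum_eq_single 1 (fun x _ hx => projChar_singular hM hB f (by
      obtain ⟨j, hj⟩ := P.isPGroup' x
      have hd : orderOf (x : G) ∣ p ^ j := by
        rw [Subgroup.orderOf_coe]; exact orderOf_dvd_of_pow_eq_one hj
      obtain ⟨l, -, hl⟩ := (Nat.dvd_prime_pow Fact.out).mp hd
      rw [hl]
      refine dvd_pow_self p fun h => hx ?_
      rw [h, pow_zero, orderOf_eq_one_iff] at hl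
      exact Subtype.ext hl)) (fun h => absurd (Finset.mem_univ _) h)
  simp only [projChar, Finset.sum_apply, Pi.smul_apply, smul_eq_mul, OneMemClass.coe_one,
    char_one_eq_degree] at hsum
  rw [Finset.sum_comm] at hsum
  simp only [← Finset.mul_sum, hc] at hsum
  have hcast : (((∑ χ ∈ bset B, dnum hM χ f * c χ) * Nat.card (P : Subgroup G) : ℕ) : ℂ) =
      ((projDeg hM B f : ℕ) : ℂ) := by
    rw [projDeg]
    push_cast
    rw [← hsum, Finset.sum_mul]
    exact Finset.sum_congr rfl fun χ _ => by ring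
  rw [← P.card_eq_multiplicity, ← Nat.cast_injective hcast]
  exact dvd_mul_left _ _

/-- The sum of the squares of the degrees in a block. -/
theorem sum_degree_sq (hM : Cfsg.IsPModular p M) {B : Set (Cfsg.IrrCharacter G)}
    (hB : Cfsg.IsPBlock M B) [Fintype {f : IBr M p G // InBlock B f}] :
    ∑ χ ∈ bset B, Cfsg.charDegree (χ : G → ℂ) ^ 2 =
      ∑ f : {f : IBr M p G // InBlock B f}, f.1.deg * projDeg hM B f.1 := by
  classical
  haveI := finite_ibr (G := G) hM
  haveI := Fintype.ofFinite (IBr M p G)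
  have hd : ∀ χ ∈ bset B, Cfsg.charDegree (χ : G → ℂ) =
      ∑ f : {f : IBr M p G // InBlock B f}, dnum hM χ f.1 * f.1.deg := by
    intro χ hχ
    have h := congrFun (pRegularPart_eq hM χ) 1
    rw [pRegularPart_apply, if_neg (by rw [orderOf_one]; exact hM.1.not_dvd_one),
      char_one_eq_degree, Finset.sum_apply] at h
    simp only [Pi.smul_apply, smul_eq_mul] at h
    rw [Finset.sum_congr rfl fun f _ => show (dnum hM χ f : ℂ) * f.1 1 =
      ((dnum hM χ f * f.deg : ℕ) : ℂ) by
        rw [← f.bchar_rep, bchar_one hM, Fintype.card_fin]; push_cast; rfl] at h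
    have h' : Cfsg.charDegree (χ : G → ℂ) = ∑ f : IBr M p G, dnum hM χ f * f.deg := by
      exact_mod_cast h
    rw [h']
    have h2 : ∑ f ∈ Finset.univ.filter (fun f : IBr M p G => InBlock B f), dnum hM χ f * f.deg =
        ∑ f : {f : IBr M p G // InBlock B f}, dnum hM χ f.1 * f.1.deg :=
      Finset.sum_subtype _ (fun f => by simp) _
    rw [← h2]
    exact (Finset.sum_subset (Finset.filter_subset _ _) fun f _ hf => by
      rw [dnum_eq_zero hM hB fun h => hf (Finset.mem_filter.mpr
        ⟨Finset.mem_univ f, h.mp (mem_bset.mp hχ)⟩), zero_mul]).symm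
  simp only [projDeg, Finset.mul_sum]
  rw [Finset.sum_comm]
  refine Finset.sum_congr rfl fun χ hχ => ?_
  rw [sq]
  conv_lhs => arg 1; rw [hd χ hχ]
  rw [Finset.sum_mul]
  exact Finset.sum_congr rfl fun f _ => by ring

end Cfsg.Agent.Lib.BrauerChar
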